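import Groth.Prelude.Def_CxOX
import Groth.Agent.ModSiteLib.ExtZero
import Groth.Agent.KFlatLib.Sky
import Groth.Agent.FiltSectLib.Stalks

/-!
# Extension by zero along open subschemes, through stalks
-/

set_option autoImplicit false
set_option linter.style.haveILetI false

universe u

open CategoryTheory CategoryTheory.Limits AlgebraicGeometry TopologicalSpace Opposite

namespace PerfCompLib

variable {X : Scheme.{u}}

instance preservesFiniteLimits_extZero (U : X.Opens) : PreservesFiniteLimits (CxOX.extZero U.ι) := by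
  haveI : PreservesFiniteLimits (Scheme.Modules.overEquiv U).inverse := inferInstance
  have h := @comp_preservesFiniteLimits _ _ _ _ _ _ (Scheme.Modules.overEquiv U).inverse
    (ModSite.extZero X.sheaf U) inferInstance (ModSiteLib.preservesFiniteLimits_extZero X.sheaf U)
  exact @preservesFiniteLimits_of_natIso _ _ _ _ _ _ (CxOX.extZeroIsoSite U).symm h

/-- `j_! j^*`. -/
noncomputable abbrev extU (U : X.Opens) : X.Modules ⥤ X.Modules :=
  Scheme.Modules.restrictFunctor U.ι ⋙ CxOX.extZero U.ι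

/-- The counit `j_! j^* ⟶ id`. -/
noncomputable abbrev extι (U : X.Opens) : extU U ⟶ 𝟭 X.Modules := (CxOX.extZeroAdj U.ι).counit

theorem isIso_unit_sky {U : X.Opens} {x : X} (hx : x ∈ U) (B : ModuleCat.{u} (X.presheaf.stalk x)) :
    IsIso ((Scheme.Modules.restrictAdjunction U.ι).unit.app (KFlatLib.skyObj x B)) := by
  refine FiltSectLib.isIso_of_stalks _ fun y =>
    FiltSectLib.isIso_stalk_of_bijective _ ⊤ (fun W _ => ?_) y trivial
  rw [Scheme.Modules.restrictAdjunction_unit_app_app]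
  have hmem : x ∈ W → x ∈ U.ι ''ᵁ (U.ι ⁻¹ᵁ W) := fun h =>
    ⟨⟨x, hx⟩, h, rfl⟩
  constructor
  · intro a b h
    refine KFlatLib.skyObj_ext x B _ _ fun hW => ?_
    exact congrArg (KFlatLib.skyVal x (hmem hW)) h
  · intro s
    refine ⟨KFlatLib.skyMk x fun hW => KFlatLib.skyVal x (hmem hW) s, ?_⟩
    exact KFlatLib.skyObj_ext x B _ _ fun _ => rfl

theorem isIso_stalk_extι {U : X.Opens} {x : X} (hx : x ∈ U) (M : X.Modules) :
    IsIso ((DerSch.stalkFunctor X x).map ((extι U).app M)) := by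
  refine isIso_of_coyoneda_map_bijective _ fun B => ?_
  let φ := (extι U).app M
  let S := KFlatLib.skyObj x B
  haveI := isIso_unit_sky hx B
  let adj := Scheme.Modules.restrictAdjunction U.ι
  have hb : Function.Bijective fun g : M ⟶ S => φ ≫ g := by
    have : (fun g : M ⟶ S => φ ≫ g) =
        ((CxOX.extZeroAdj U.ι).homEquiv _ _).symm ∘ (adj.homEquiv _ _).symm ∘
          fun g : M ⟶ S => g ≫ adj.unit.app S := by
      funext g
      simp only [Function.comp_apply, Adjunction.homEquiv_counit, Functor.map_comp, Category.assoc,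
        adj.left_triangle_components S, Category.comp_id]
      exact ((CxOX.extZeroAdj U.ι).counit.naturality g).symm
    rw [this]
    exact (Equiv.bijective _).comp ((Equiv.bijective _).comp
      ((asIso (adj.unit.app S)).homToEquiv.bijective))
  have hc : (fun g : (DerSch.stalkFunctor X x).obj M ⟶ B => (DerSch.stalkFunctor X x).map φ ≫ g) =
      (KFlatLib.skyHomEquiv x _ B).symm ∘ (fun g : M ⟶ S => φ ≫ g) ∘ KFlatLib.skyHomEquiv x M B := by
    funext g
    simp only [Function.comp_apply, S, φ]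
    exact (Equiv.eq_symm_apply _).2 (KFlatLib.skyHomEquiv_naturality x φ g)
  show Function.Bijective fun g : (DerSch.stalkFunctor X x).obj M ⟶ B => (DerSch.stalkFunctor X x).map φ ≫ g
  rw [hc]
  exact (Equiv.bijective _).comp (hb.comp (Equiv.bijective _))

theorem isZero_stalk_extU {U : X.Opens} {x : X} (hx : x ∉ U) (M : X.Modules) :
    IsZero ((DerSch.stalkFunctor X x).obj ((extU U).obj M)) := by
  rw [IsZero.iff_id_eq_zero]
  have hsub : ∀ (W : Opens U.toScheme) (a b : Γ(KFlatLib.skyObj x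
      ((DerSch.stalkFunctor X x).obj ((extU U).obj M)), U.ι ''ᵁ W)), a = b := fun W a b =>
    KFlatLib.skyObj_ext x _ _ _ fun h => absurd (by
      obtain ⟨w, _, rfl⟩ := h
      exact w.2) hx
  apply (KFlatLib.skyHomEquiv x _ _).injective
  apply ((CxOX.extZeroAdj U.ι).homEquiv _ _).injective
  refine Scheme.Modules.hom_ext _ _ fun W => ?_
  ext m
  exact hsub W _ _

theorem isIso_restrict_of_stalks {V : Scheme.{u}} (j : V ⟶ X) [IsOpenImmersion j] {M N : X.Modules}
    (φ : M ⟶ N) (h : ∀ v : V, IsIso ((DerSch.stalkFunctor X (j v)).map φ)) :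
    IsIso ((Scheme.Modules.restrictFunctor j).map φ) := by
  refine FiltSectLib.isIso_of_stalks _ fun v => ?_
  rw [ConcreteCategory.isIso_iff_bijective]
  haveI : IsIso ((Scheme.Modules.toPresheaf X ⋙
      TopCat.Presheaf.stalkFunctor Ab.{u} (j v : X.toTopCat)).map φ) := by
    have hb := @ConcreteCategory.bijective_of_isIso _ _ _ _ _ _ _ _
      ((DerSch.stalkFunctor X (j v)).map φ) (h v)
    exact (ConcreteCategory.isIso_iff_bijective _).2 hb
  haveI hv : IsIso ((Scheme.Modules.restrictFunctor j ⋙ Scheme.Modules.toPresheaf V ⋙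
      TopCat.Presheaf.stalkFunctor Ab.{u} (v : V.toTopCat)).map φ) :=
    (NatIso.isIso_map_iff (Scheme.Modules.restrictStalkNatIso j v) φ).2 inferInstance
  have hb := @ConcreteCategory.bijective_of_isIso _ _ _ _ _ _ _ _
    ((Scheme.Modules.restrictFunctor j ⋙ Scheme.Modules.toPresheaf V ⋙
      TopCat.Presheaf.stalkFunctor Ab.{u} (v : V.toTopCat)).map φ) hv
  exact hb

/-- `j_{W!} j_W^* ⟶ j_{U!} j_U^*` for `W ≤ U`. -/
noncomputable def extMap {W U : X.Opens} (h : W ≤ U) (M : X.Modules) :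
    (extU W).obj M ⟶ (extU U).obj M :=
  haveI : IsIso ((Scheme.Modules.restrictFunctor W.ι).map ((extι U).app M)) :=
    isIso_restrict_of_stalks W.ι _ fun x => isIso_stalk_extι (h x.2) M
  ((CxOX.extZeroAdj W.ι).homEquiv _ _).symm
    (inv ((Scheme.Modules.restrictFunctor W.ι).map ((extι U).app M)))

theorem mono_of_stalks {M N : X.Modules} (φ : M ⟶ N)
    (h : ∀ x : X, Mono ((DerSch.stalkFunctor X x).map φ)) : Mono φ := by
  rw [Preadditive.mono_iff_isZero_kernel, KFlatLib.isZero_iff_forall_stalk]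
  intro x
  have := h x
  exact (isZero_kernel_of_mono _).of_iso (PreservesKernel.iso (DerSch.stalkFunctor X x) φ)

theorem epi_of_stalks {M N : X.Modules} (φ : M ⟶ N)
    (h : ∀ x : X, Epi ((DerSch.stalkFunctor X x).map φ)) : Epi φ := by
  rw [Preadditive.epi_iff_isZero_cokernel, KFlatLib.isZero_iff_forall_stalk]
  intro x
  have := h x
  exact (isZero_cokernel_of_epi _).of_iso (PreservesCokernel.iso (DerSch.stalkFunctor X x) φ)

theorem shortExact_of_stalks (S : ShortComplex X.Modules)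
    (h : ∀ x : X, (S.map (DerSch.stalkFunctor X x)).ShortExact) : S.ShortExact where
  mono_f := mono_of_stalks _ fun x => (h x).mono_f
  epi_g := epi_of_stalks _ fun x => (h x).epi_g
  exact := by
    rw [ShortComplex.exact_iff_isZero_homology, KFlatLib.isZero_iff_forall_stalk]
    intro x
    exact ((ShortComplex.exact_iff_isZero_homology _).mp (h x).exact).of_iso
      (S.mapHomologyIso (DerSch.stalkFunctor X x)).symm

theorem extMap_ι {W U : X.Opens} (h : W ≤ U) (M : X.Modules) :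
    extMap h M ≫ (extι U).app M = (extι W).app M := by
  rw [extMap]
  haveI : IsIso ((Scheme.Modules.restrictFunctor W.ι).map ((extι U).app M)) :=
    isIso_restrict_of_stalks W.ι _ fun x => isIso_stalk_extι (h x.2) M
  refine ((CxOX.extZeroAdj W.ι).homEquiv_naturality_right_symm _ _).symm.trans ?_
  rw [IsIso.inv_hom_id, Adjunction.homEquiv_counit, CategoryTheory.Functor.map_id, Category.id_comp]
  rfl

instance mono_extι (U : X.Opens) (M : X.Modules) : Mono ((extι U).app M) :=
  mono_of_stalks _ fun x => by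
    by_cases hx : x ∈ U
    · have := isIso_stalk_extι hx M
      infer_instance
    · exact ⟨fun _ _ _ => (isZero_stalk_extU hx M).eq_of_tgt _ _⟩

/-- `extMap` as a natural transformation. -/
noncomputable def extT {W U : X.Opens} (h : W ≤ U) : extU W ⟶ extU U where
  app M := extMap h M
  naturality M N φ := by
    rw [← cancel_mono ((extι U).app N), Category.assoc, Category.assoc, extMap_ι]
    refine ((extι W).naturality φ).trans ?_
    refine Eq.trans ?_ (congrArg (extMap h M ≫ ·) ((extι U).naturality φ)).symm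
    rw [← Category.assoc, extMap_ι]

theorem isIso_stalk_extT {W U : X.Opens} (h : W ≤ U) (M : X.Modules) (x : X)
    (hx : x ∈ U → x ∈ W) : IsIso ((DerSch.stalkFunctor X x).map ((extT h).app M)) := by
  by_cases hU : x ∈ U
  · have h₁ : IsIso ((DerSch.stalkFunctor X x).map (extMap h M) ≫
        (DerSch.stalkFunctor X x).map ((extι U).app M)) := by
      rw [← Functor.map_comp, extMap_ι]
      exact isIso_stalk_extι (hx hU) M
    haveI := isIso_stalk_extι hU M
    exact @IsIso.of_isIso_comp_right _ _ _ _ _ _ _ ‹_› h₁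
  · exact isIso_of_isTerminal (isZero_stalk_extU (fun hW => hU (h hW)) M).isTerminal
      (isZero_stalk_extU hU M).isTerminal _

section MV

variable {B : Type*} [Category B] [Preadditive B] [HasBinaryBiproducts B] {C : Type*} [Category C]
  [Preadditive C] (G : B ⥤ C) [G.Additive]

theorem split_id {A B₁ B₂ T : B} (a₁ : A ⟶ B₁) (a₂ : A ⟶ B₂) (b₁ : B₁ ⟶ T)
    (b₂ : B₂ ⟶ T) (w : biprod.lift a₁ a₂ ≫ biprod.desc b₁ b₂ = 0) [h₂ : IsIso (G.map a₂)]
    [h₁ : IsIso (G.map b₁)] :
    (G.map biprod.snd ≫ inv (G.map a₂)) ≫ G.map (biprod.lift a₁ a₂) +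
      G.map (biprod.desc b₁ b₂) ≫ inv (G.map b₁) ≫ G.map biprod.inl = 𝟙 (G.obj (B₁ ⊞ B₂)) := by
  have w' : G.map a₁ ≫ G.map b₁ = -(G.map a₂ ≫ G.map b₂) := by
    rw [← Functor.map_comp, ← Functor.map_comp, eq_neg_iff_add_eq_zero, ← Functor.map_add,
      ← biprod.lift_desc, w, Functor.map_zero]
  have w'' : inv (G.map a₂) ≫ G.map a₁ = -(G.map b₂ ≫ inv (G.map b₁)) := by
    rw [← cancel_mono (G.map b₁), Category.assoc, w', Preadditive.comp_neg,
      IsIso.inv_hom_id_assoc, Preadditive.neg_comp, Category.assoc, IsIso.inv_hom_id,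
      Category.comp_id]
  have hl : biprod.lift a₁ a₂ = a₁ ≫ biprod.inl + a₂ ≫ biprod.inr := by ext <;> simp
  have hd : biprod.desc b₁ b₂ = biprod.fst ≫ b₁ + biprod.snd ≫ b₂ := by ext <;> simp
  rw [← G.map_id, ← biprod.total, hl, hd]
  simp only [Functor.map_add, Functor.map_comp, Preadditive.comp_add, Preadditive.add_comp,
    Category.assoc, IsIso.hom_inv_id_assoc, IsIso.inv_hom_id_assoc]
  rw [reassoc_of% w'']
  simp only [Preadditive.neg_comp, Preadditive.comp_neg, Category.assoc]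
  abel

/-- A criterion for a biproduct sequence to split after applying a functor. -/
noncomputable def splittingOfIsIso {A B₁ B₂ T : B} (a₁ : A ⟶ B₁) (a₂ : A ⟶ B₂) (b₁ : B₁ ⟶ T)
    (b₂ : B₂ ⟶ T) (w : biprod.lift a₁ a₂ ≫ biprod.desc b₁ b₂ = 0) [h₂ : IsIso (G.map a₂)]
    [h₁ : IsIso (G.map b₁)] :
    ((ShortComplex.mk _ _ w).map G).Splitting where
  r := G.map biprod.snd ≫ @inv _ _ _ _ (G.map a₂) h₂
  s := @inv _ _ _ _ (G.map b₁) h₁ ≫ G.map biprod.inl
  f_r := by
    have e : G.map (biprod.lift a₁ a₂) ≫ G.map biprod.snd ≫ inv (G.map a₂) = 𝟙 (G.obj A) := by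
      rw [← Category.assoc, ← Functor.map_comp, biprod.lift_snd, IsIso.hom_inv_id]
    exact e
  s_g := by
    have e : (inv (G.map b₁) ≫ G.map biprod.inl) ≫ G.map (biprod.desc b₁ b₂) = 𝟙 (G.obj T) := by
      rw [Category.assoc, ← Functor.map_comp, biprod.inl_desc, IsIso.inv_hom_id]
    exact e
  id := split_id G a₁ a₂ b₁ b₂ w

theorem split_id_of_isZero {A B₁ B₂ T : B} (a₁ : A ⟶ B₁) (a₂ : A ⟶ B₂) (b₁ : B₁ ⟶ T)
    (b₂ : B₂ ⟶ T) (z₁ : IsZero (G.obj B₁)) [h₁ : IsIso (G.map b₂)] :
    (0 : G.obj (B₁ ⊞ B₂) ⟶ G.obj A) ≫ G.map (biprod.lift a₁ a₂) +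
      G.map (biprod.desc b₁ b₂) ≫ inv (G.map b₂) ≫ G.map biprod.inr = 𝟙 (G.obj (B₁ ⊞ B₂)) := by
  have hd : biprod.desc b₁ b₂ = biprod.fst ≫ b₁ + biprod.snd ≫ b₂ := by ext <;> simp
  rw [← G.map_id, ← biprod.total, hd, zero_comp, zero_add]
  simp only [Functor.map_add, Functor.map_comp, Preadditive.add_comp, Category.assoc,
    IsIso.hom_inv_id_assoc]
  congr 1
  rw [show G.map b₁ = 0 from z₁.eq_of_src _ _, zero_comp, comp_zero,
    show G.map biprod.inl = 0 from z₁.eq_of_src _ _, comp_zero]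

/-- The degenerate case. -/
noncomputable def splittingOfIsZero {A B₁ B₂ T : B} (a₁ : A ⟶ B₁) (a₂ : A ⟶ B₂) (b₁ : B₁ ⟶ T)
    (b₂ : B₂ ⟶ T) (w : biprod.lift a₁ a₂ ≫ biprod.desc b₁ b₂ = 0) (z₀ : IsZero (G.obj A))
    (z₁ : IsZero (G.obj B₁)) [h₁ : IsIso (G.map b₂)] :
    ((ShortComplex.mk _ _ w).map G).Splitting where
  r := (0 : G.obj (B₁ ⊞ B₂) ⟶ G.obj A)
  s := @inv _ _ _ _ (G.map b₂) h₁ ≫ G.map biprod.inr
  f_r := z₀.eq_of_src _ _
  s_g := by
    have e : (inv (G.map b₂) ≫ G.map biprod.inr) ≫ G.map (biprod.desc b₁ b₂) = 𝟙 (G.obj T) := by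
      rw [Category.assoc, ← Functor.map_comp, biprod.inr_desc, IsIso.inv_hom_id]
    exact e
  id := split_id_of_isZero G a₁ a₂ b₁ b₂ z₁

end MV

/-- The Mayer–Vietoris sequence of extensions by zero, on complexes. -/
noncomputable def mvSeq (U V : X.Opens) (K : CochainComplex X.Modules ℤ) :
    ShortComplex (CochainComplex X.Modules ℤ) :=
  ShortComplex.mk
    (biprod.lift ((NatTrans.mapHomologicalComplex (extT (inf_le_left : U ⊓ V ≤ U)) _).app K)
      (-(NatTrans.mapHomologicalComplex (extT (inf_le_right : U ⊓ V ≤ V)) _).app K))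
    (biprod.desc ((NatTrans.mapHomologicalComplex (extT (le_sup_left : U ≤ U ⊔ V)) _).app K)
      ((NatTrans.mapHomologicalComplex (extT (le_sup_right : V ≤ U ⊔ V)) _).app K))
    (by
      rw [biprod.lift_desc, Preadditive.neg_comp, ← sub_eq_add_neg, sub_eq_zero]
      ext i : 1
      change extMap (inf_le_left : U ⊓ V ≤ U) (K.X i) ≫ extMap (le_sup_left : U ≤ U ⊔ V) (K.X i) =
        extMap (inf_le_right : U ⊓ V ≤ V) (K.X i) ≫ extMap (le_sup_right : V ≤ U ⊔ V) (K.X i)
      rw [← cancel_mono ((extι (U ⊔ V)).app (K.X i))]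
      simp only [Category.assoc, extMap_ι])

theorem shortExact_mvSeq (U V : X.Opens) (K : CochainComplex X.Modules ℤ) :
    (mvSeq U V K).ShortExact := by
  refine HomologicalComplex.shortExact_of_degreewise_shortExact _ fun i =>
    shortExact_of_stalks _ fun x => ?_
  let G := HomologicalComplex.eval X.Modules (ComplexShape.up ℤ) i ⋙ DerSch.stalkFunctor X x
  change ((mvSeq U V K).map G).ShortExact
  let a₁ := (NatTrans.mapHomologicalComplex (extT (inf_le_left : U ⊓ V ≤ U)) (ComplexShape.up ℤ)).app K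
  let a₂ := -(NatTrans.mapHomologicalComplex (extT (inf_le_right : U ⊓ V ≤ V)) (ComplexShape.up ℤ)).app K
  let b₁ := (NatTrans.mapHomologicalComplex (extT (le_sup_left : U ≤ U ⊔ V)) (ComplexShape.up ℤ)).app K
  let b₂ := (NatTrans.mapHomologicalComplex (extT (le_sup_right : V ≤ U ⊔ V)) (ComplexShape.up ℤ)).app K
  have hneg : IsIso ((DerSch.stalkFunctor X x).map ((extT (inf_le_right : U ⊓ V ≤ V)).app (K.X i))) →
      IsIso (G.map a₂) := fun h => by
    haveI : IsIso (G.map (-a₂)) := by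
      simp only [a₂, neg_neg]
      exact h
    have : G.map a₂ = (asIso (G.map (-a₂))).hom ≫ (-𝟙 _) := by simp [Functor.map_neg]
    rw [this]
    haveI : IsIso (-𝟙 (G.obj ((extU V).mapHomologicalComplex (ComplexShape.up ℤ) |>.obj K))) :=
      ⟨-𝟙 _, by simp, by simp⟩
    exact IsIso.comp_isIso' inferInstance this
  by_cases hV : x ∈ V
  · by_cases hU : x ∈ U
    · haveI := hneg (isIso_stalk_extT (inf_le_right : U ⊓ V ≤ V) _ x fun _ => ⟨hU, hV⟩)
      haveI : IsIso (G.map b₁) := isIso_stalk_extT (le_sup_left : U ≤ U ⊔ V) _ x fun _ => hU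
      exact (splittingOfIsIso G a₁ a₂ b₁ b₂ (mvSeq U V K).zero).shortExact
    · -- only the second component survives
      have z₀ := isZero_stalk_extU (U := U ⊓ V) (fun h => hU h.1) (K.X i)
      have z₁ := isZero_stalk_extU hU (K.X i)
      haveI h₂ : IsIso (G.map b₂) := isIso_stalk_extT (le_sup_right : V ≤ U ⊔ V) _ x fun _ => hV
      exact (@splittingOfIsZero _ _ _ _ _ _ _ G inferInstance _ _ _ _ a₁ a₂ b₁ b₂ (mvSeq U V K).zero z₀ z₁ h₂).shortExact
  · haveI := hneg (isIso_stalk_extT (inf_le_right : U ⊓ V ≤ V) _ x fun h => absurd h hV)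
    haveI : IsIso (G.map b₁) := isIso_stalk_extT (le_sup_left : U ≤ U ⊔ V) _ x fun h => h.resolve_right hV
    exact (splittingOfIsIso G a₁ a₂ b₁ b₂ (mvSeq U V K).zero).shortExact

end PerfCompLib
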