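import Groth.Agent.PerfCompLib.ExtZero
import Groth.Agent.KFlatLib.FPLift
import Groth.Agent.KFlatLib.StalkTensor
import Groth.Agent.KFlatLib.FreeModel

/-!
# `freeU W ⊗ N` as the extension by zero of `N|_W`
-/

set_option autoImplicit false
set_option linter.style.haveILetI false

universe u

open CategoryTheory CategoryTheory.Limits AlgebraicGeometry TopologicalSpace Opposite MonoidalCategory

namespace PerfCompLib

variable {X : Scheme.{u}}

open KFlatLib

/-- `freeU W ⊗ -`. -/
noncomputable abbrev tensU (W : X.Opens) : X.Modules ⥤ X.Modules :=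
  (DCoh.tensorBi (X := X)).obj (freeU W)

/-- `freeU W ⟶ O`. -/
noncomputable abbrev oneU (W : X.Opens) : freeU W ⟶ Coh.structureModule X :=
  resU (le_top : W ≤ ⊤) ≫ (structureIso X).hom

/-- `O ⊗ - ≅ id`. -/
noncomputable def tensUnitNat : (DCoh.tensorBi (X := X)).obj (Coh.structureModule X) ≅ 𝟭 _ :=
  NatIso.ofComponents (fun N => tensUnitIso N) fun {N N'} φ => by
    let ε := (PresheafOfModules.sheafificationAdjunction.{u} (R := X.ringCatSheaf)
      (𝟙 X.ringCatSheaf.obj)).counit
    change DCoh.shP.map (_ ◁ DCoh.toP.map φ) ≫ DCoh.shP.map (λ_ (DCoh.toP.obj N')).hom ≫ ε.app N' =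
      (DCoh.shP.map (λ_ (DCoh.toP.obj N)).hom ≫ ε.app N) ≫ φ
    refine (Category.assoc _ _ _).symm.trans ?_
    refine (congrArg (· ≫ _) ((DCoh.shP.map_comp _ _).symm.trans
      ((congrArg DCoh.shP.map (leftUnitor_naturality (DCoh.toP.map φ))).trans
        (DCoh.shP.map_comp _ _)))).trans ?_
    refine (Category.assoc _ _ _).trans ((congrArg (_ ≫ ·) (ε.naturality φ)).trans ?_)
    exact (Category.assoc _ _ _).symm

/-- The inclusion `freeU W ⊗ N ⟶ N`. -/
noncomputable def theta (W : X.Opens) : tensU W ⟶ 𝟭 X.Modules :=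
  (DCoh.tensorBi (X := X)).map (oneU W) ≫ tensUnitNat.hom

theorem theta_res {W' W : X.Opens} (h : W' ≤ W) (N : X.Modules) :
    ((DCoh.tensorBi (X := X)).map (resU h)).app N ≫ (theta W).app N = (theta W').app N := by
  rw [theta, theta, NatTrans.comp_app, NatTrans.comp_app, ← Category.assoc, ← NatTrans.comp_app,
    ← Functor.map_comp]
  congr 3
  rw [oneU, oneU, ← Category.assoc]
  congr 1
  rw [KFlatLib.resU_comp, resU]
  congr 1
  rw [secMap, Equiv.apply_symm_apply]
  exact QCohLib.map_map' _ _ _ _

theorem isIso_stalk_resU {W : X.Opens} {x : X} (hx : x ∈ W) :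
    IsIso ((DerSch.stalkFunctor X x).map (resU (le_top : W ≤ ⊤))) := by
  have hx' : x ∈ (⊤ : X.Opens) := trivial
  have e : (DerSch.stalkFunctor X x).map (resU (le_top : W ≤ ⊤)) =
      (stalkFreeUIso x hx).hom ≫ (stalkFreeUIso x hx').inv := by
    refine stalk_freeU_ext x hx _ _ ?_
    rw [genGerm_map, resU, secMap, Equiv.apply_symm_apply]
    refine (TopCat.Presheaf.germ_res_apply _ (homOfLE (le_top : W ≤ ⊤)) x hx _).trans ?_
    change _ = ((stalkFreeUIso x hx').inv.hom) ((stalkFreeUIso x hx).hom.hom (genGerm x hx))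
    rw [show (stalkFreeUIso x hx).hom.hom (genGerm x hx) = (1 : X.presheaf.stalk x) from
      stalkFreeUIso.gen_value x]
    exact (one_smul _ _).symm
  rw [e]
  infer_instance

theorem isZero_stalk_freeU {W : X.Opens} {x : X} (hx : x ∉ W) :
    IsZero ((DerSch.stalkFunctor X x).obj (freeU W)) := by
  rw [IsZero.iff_id_eq_zero]
  apply (skyHomEquiv x _ _).injective
  apply (freeUEquiv W _).injective
  exact skyObj_ext x _ _ _ fun h => absurd h hx

theorem isIso_stalk_theta {W : X.Opens} {x : X} (hx : x ∈ W) (N : X.Modules) :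
    IsIso ((DerSch.stalkFunctor X x).map ((theta W).app N)) := by
  haveI := isIso_stalk_resU hx
  haveI : IsIso ((DerSch.stalkFunctor X x).map (oneU W)) := by
    rw [Functor.map_comp]
    infer_instance
  haveI : IsIso ((DerSch.stalkFunctor X x).map (((DCoh.tensorBi (X := X)).map (oneU W)).app N)) := by
    have e := stalkTensorIso_natural_left (N := N) (x := x) (oneU W)
    have : (DerSch.stalkFunctor X x).map (((DCoh.tensorBi (X := X)).map (oneU W)).app N) =
        (stalkTensorIso (freeU W) N x).inv ≫
          ((DerSch.stalkFunctor X x).map (oneU W) ▷ (DerSch.stalkFunctor X x).obj N) ≫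
            (stalkTensorIso (Coh.structureModule X) N x).hom := by
      rw [e, Iso.inv_hom_id_assoc]
    rw [this]
    infer_instance
  rw [theta, NatTrans.comp_app, Functor.map_comp]
  infer_instance

theorem isZero_stalk_tensU {W : X.Opens} {x : X} (hx : x ∉ W) (N : X.Modules) :
    IsZero ((DerSch.stalkFunctor X x).obj ((tensU W).obj N)) :=
  ((Functor.map_isZero (MonoidalCategory.tensorRight ((DerSch.stalkFunctor X x).obj N))
    (isZero_stalk_freeU hx))).of_iso (stalkTensorIso (freeU W) N x).symm

instance mono_theta (W : X.Opens) (N : X.Modules) : Mono ((theta W).app N) :=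
  mono_of_stalks _ fun x => by
    by_cases hx : x ∈ W
    · have := isIso_stalk_theta hx N
      infer_instance
    · exact ⟨fun _ _ _ => (isZero_stalk_tensU hx N).eq_of_tgt _ _⟩

theorem isIso_theta_top (N : X.Modules) : IsIso ((theta (⊤ : X.Opens)).app N) :=
  FiltSectLib.isIso_of_stalks _ fun x => isIso_stalk_theta (W := (⊤ : X.Opens)) trivial N

/-- `extU W ≅ freeU W ⊗ -`. -/
noncomputable def extTensIso (W : X.Opens) : extU W ≅ tensU W := by
  let a : ∀ N, (extU W).obj ((tensU W).obj N) ⟶ (extU W).obj N := fun N => (extU W).map ((theta W).app N)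
  haveI h₁ : ∀ N, IsIso (a N) := fun N => FiltSectLib.isIso_of_stalks _ fun x => by
    by_cases hx : x ∈ W
    · have := isIso_stalk_theta hx N
      have := isIso_stalk_extι hx ((tensU W).obj N)
      have := isIso_stalk_extι hx N
      have hn : (DerSch.stalkFunctor X x).map (a N) ≫ (DerSch.stalkFunctor X x).map ((extι W).app N) =
          (DerSch.stalkFunctor X x).map ((extι W).app ((tensU W).obj N)) ≫
            (DerSch.stalkFunctor X x).map ((theta W).app N) := by
        rw [← Functor.map_comp, ← Functor.map_comp]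
        exact congrArg _ ((extι W).naturality ((theta W).app N))
      haveI : IsIso ((DerSch.stalkFunctor X x).map (a N) ≫
          (DerSch.stalkFunctor X x).map ((extι W).app N)) := by
        rw [hn]
        infer_instance
      exact IsIso.of_isIso_comp_right _ ((DerSch.stalkFunctor X x).map ((extι W).app N))
    · exact isIso_of_isTerminal (isZero_stalk_extU hx _).isTerminal (isZero_stalk_extU hx _).isTerminal _
  haveI h₂ : ∀ N, IsIso ((extι W).app ((tensU W).obj N)) := fun N => FiltSectLib.isIso_of_stalks _ fun x => by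
    by_cases hx : x ∈ W
    · exact isIso_stalk_extι hx _
    · exact isIso_of_isTerminal (isZero_stalk_extU hx _).isTerminal (isZero_stalk_tensU hx _).isTerminal _
  haveI : IsIso (Functor.whiskerRight (theta W) (extU W)) :=
    @NatIso.isIso_of_isIso_app _ _ _ _ _ _ _ h₁
  haveI : IsIso (Functor.whiskerLeft (tensU W) (extι W)) :=
    @NatIso.isIso_of_isIso_app _ _ _ _ _ _ _ h₂
  exact (Functor.leftUnitor _).symm ≪≫ (asIso (Functor.whiskerRight (theta W) (extU W))).symm ≪≫
    asIso (Functor.whiskerLeft (tensU W) (extι W)) ≪≫ Functor.rightUnitor _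

end PerfCompLib
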