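import Groth.Agent.PerfCompLib.Global

/-!
# Compactness of perfect objects
-/

set_option autoImplicit false
set_option linter.style.haveILetI false

universe u

open CategoryTheory CategoryTheory.Limits CategoryTheory.Pretriangulated AlgebraicGeometry TopologicalSpace
open Groth.Agent.PerfLib (resC resD resDQIso)
open QCohLib (toAbF)

attribute [local instance] HasDerivedCategory.standard

namespace PerfCompLib

variable {X : Scheme.{u}} [CompactSpace X]

theorem exists_models {F : CochainComplex X.Modules ℤ} (hF : DCoh.IsPerfect (DerivedCategory.Q.obj F)) :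
    ∃ a : ℤ, ∀ x : X, ∃ V : X.Opens, x ∈ V ∧ ModelGE a V F := by
  classical
  choose V hxV hV using hF
  choose E hE he using fun x => hV x F ⟨Iso.refl _⟩
  choose a b hab using fun x => (hE x).1
  obtain ⟨t, ht⟩ := isCompact_univ.elim_finite_subcover (fun x => (V x : Set X))
    (fun x => (V x).isOpen) (fun x _ => Set.mem_iUnion.2 ⟨x, hxV x⟩)
  refine ⟨-(((t.sup fun x => (-(a x)).toNat) : ℕ) : ℤ), fun x => ?_⟩
  have := ht (Set.mem_univ x)
  simp only [Set.mem_iUnion] at this
  obtain ⟨y, hy, hxy⟩ := this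
  refine ⟨V y, hxy, ModelGE.of_le (a := a y) ?_ ⟨E y, hE y, fun i hi => hab y i (Or.inl hi), he y⟩⟩
  have h : (-(a y)).toNat ≤ t.sup fun x => (-(a x)).toNat := Finset.le_sup (f := fun x => (-(a x)).toNat) hy
  omega

omit [CompactSpace X] in
theorem exactAt_of_models {F : CochainComplex X.Modules ℤ} {a : ℤ}
    (h : ∀ x : X, ∃ V : X.Opens, x ∈ V ∧ ModelGE a V F) (i : ℤ) (hi : i < a) : F.ExactAt i := by
  rw [HomologicalComplex.exactAt_iff_isZero_homology, KFlatLib.isZero_iff_forall_stalk]
  intro x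
  obtain ⟨V, hxV, E, -, hz, ⟨e⟩⟩ := h x
  let R := Scheme.Modules.restrictFunctor V.ι
  have h1 : IsZero (((resC V.ι).obj F).homology i) := by
    refine IsZero.of_iso ?_ ((((DerivedCategory.homologyFunctorFactors V.toScheme.Modules i).app _).symm ≪≫
      (DerivedCategory.homologyFunctor V.toScheme.Modules i).mapIso e ≪≫
      (DerivedCategory.homologyFunctorFactors V.toScheme.Modules i).app E))
    exact ShortComplex.isZero_homology_of_isZero_X₂ _ (hz i hi)
  have h2 : IsZero (R.obj (F.homology i)) := h1.of_iso ((F.sc i).mapHomologyIso R).symm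
  rw [IsZero.iff_id_eq_zero]
  ext m
  obtain ⟨U, hxU, s, rfl⟩ := TopCat.Presheaf.germ_exist (F.homology i).presheaf m
  have h3 : IsZero ((R ⋙ Scheme.Modules.toPresheaf _ ⋙
      TopCat.Presheaf.stalkFunctor Ab.{u} (⟨x, hxV⟩ : V.toScheme.toTopCat)).obj (F.homology i)) :=
    Functor.map_isZero (Scheme.Modules.toPresheaf V.toScheme ⋙
      TopCat.Presheaf.stalkFunctor Ab.{u} (⟨x, hxV⟩ : V.toScheme.toTopCat)) h2
  have h4 := h3.of_iso ((Scheme.Modules.restrictStalkNatIso V.ι ⟨x, hxV⟩).app (F.homology i)).symm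
  exact @Subsingleton.elim _ (AddCommGrpCat.subsingleton_of_isZero h4) _ _

variable [QuasiSeparatedSpace X] {d : ℕ}

/-- Maps from perfect complexes into sufficiently negative objects vanish. -/
theorem exists_hom_eq_zero {K : DCoh.D X} (hK : DCoh.IsPerfect K)
    (hd : ∀ (G : X.Modules) (i : ℕ), d < i → Subsingleton (Coh.HH X G i)) :
    ∃ N : ℤ, ∀ (Z : DCoh.D X), Z.IsLE N → ∀ f : K ⟶ Z, f = 0 := by
  obtain ⟨F₀, ⟨eF⟩⟩ : ∃ F, Nonempty (DerivedCategory.Q.obj F ≅ K) :=
    ⟨_, ⟨DerivedCategory.Q.objObjPreimageIso K⟩⟩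
  obtain ⟨a, ha⟩ := exists_models (Groth.Agent.PerfLib.isPerfect_of_iso eF.symm hK)
  haveI : F₀.IsGE a := (CochainComplex.isGE_iff _ _).2 fun i hi => exactAt_of_models ha i hi
  haveI : QuasiIso (F₀.πTruncGE a) := (CochainComplex.quasiIso_πTruncGE_iff F₀ a).2 inferInstance
  let F := F₀.truncGE a
  let eT : DerivedCategory.Q.obj F₀ ≅ DerivedCategory.Q.obj F := asIso (DerivedCategory.Q.map (F₀.πTruncGE a))
  have hF : ∀ x : X, ∃ V : X.Opens, x ∈ V ∧ ModelGE a V F := fun x => by
    obtain ⟨V, hxV, E, hE, hz, ⟨e⟩⟩ := ha x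
    exact ⟨V, hxV, E, hE, hz, ⟨(resDQIso V.ι F).symm ≪≫ (resD V.ι).mapIso eT.symm ≪≫
      resDQIso V.ι F₀ ≪≫ e⟩⟩
  refine ⟨a - d - 2, fun Z hZ f => ?_⟩
  let Z₀ := DerivedCategory.Q.objPreimage Z
  obtain ⟨R, η, hR⟩ := FiltSectLib.exists_kInjFunctor (A := X.Modules)
  let J := R.obj Z₀
  haveI := (hR Z₀).1
  haveI := (hR Z₀).2.1
  let eJ : DerivedCategory.Q.obj J ≅ Z :=
    (asIso (DerivedCategory.Q.map (η.app Z₀))).symm ≪≫ DerivedCategory.Q.objObjPreimageIso Z
  haveI : J.IsLE (a - d - 2) := (DerivedCategory.isLE_Q_obj_iff J _).1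
    (DerivedCategory.TStructure.t.isLE_of_iso eJ.symm _)
  obtain ⟨g, hg⟩ := Groth.Agent.DerLib.KInjUse.Q_map_surjective F J (eT.inv ≫ eF.hom ≫ f ≫ eJ.inv)
  obtain ⟨J', ι, hJ', hι⟩ := QRlimLib.exists_brutal J (a - d - 2)
  haveI := hJ'
  have hJinj : ∀ i, Injective (J'.X i) := fun i => by
    by_cases hi : a - d - 2 ≤ i
    · have := hι i hi
      haveI := (hR Z₀).2.2 i
      exact Injective.of_iso (asIso (ι.f i)).symm inferInstance
    · exact ⟨fun _ _ _ => ⟨0, (CochainComplex.isZero_of_isStrictlyGE J' (a - d - 2) i (by omega)).eq_of_tgt _ _⟩⟩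
  classical
  let g' : F ⟶ J' :=
    { f := fun i => if h : a - d - 2 ≤ i then
        haveI := hι i h
        g.f i ≫ inv (ι.f i) else 0
      comm' := fun i j hij => by
        have hij' : i + 1 = j := hij
        by_cases h : a ≤ i
        · rw [dif_pos (show a - d - 2 ≤ i by omega), dif_pos (show a - d - 2 ≤ j by omega)]
          haveI := hι i (by omega)
          haveI := hι j (by omega)
          rw [← cancel_mono (ι.f j)]
          simp only [Category.assoc, IsIso.inv_hom_id, Category.comp_id]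
          rw [← ι.comm i j, IsIso.inv_hom_id_assoc]
          exact g.comm i j
        · exact (CochainComplex.isZero_of_isStrictlyGE F a i (by omega)).eq_of_src _ _ }
  have hg' : g' ≫ ι = g := by
    ext i : 1
    by_cases h : a ≤ i
    · haveI := hι i (by omega)
      rw [HomologicalComplex.comp_f]
      dsimp only [g']
      rw [dif_pos (show a - d - 2 ≤ i by omega), Category.assoc, IsIso.inv_hom_id, Category.comp_id]
    · exact (CochainComplex.isZero_of_isStrictlyGE F a i (by omega)).eq_of_src _ _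
  let n : ℤ := (d : ℤ) + 1
  let I := J'⟦-n⟧
  haveI : CochainComplex.IsStrictlyGE I (a - 1) :=
    CochainComplex.isStrictlyGE_shift J' (a - d - 2) (-n) (a - 1) (by omega)
  let c := (shiftFunctorCompIsoId (CochainComplex X.Modules ℤ) (-n) n (by omega)).app J'
  have hexact : ∀ i, a ≤ i → I.ExactAt i := fun i hi => by
    refine exactAt_shift (-n) i (-n + i) rfl ?_
    rw [HomologicalComplex.exactAt_iff_isZero_homology]
    haveI := QRlimLib.isIso_homologyMap_brutal ι (a - d - 2) hι (-n + i) (by omega)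
    exact (CochainComplex.isZero_of_isLE J (a - d - 2) _ (by omega)).of_iso
      (asIso (HomologicalComplex.homologyMap ι (-n + i)))
  have hz : DerivedCategory.Q.map (g' ≫ c.inv) = 0 :=
    Q_map_eq_zero (c := a - 1)
      (fun G p hp => (QCohLib.subsingleton_H_iff ((toAbF X).obj G) p).1 (hd G p hp)) hF
      (fun i => hJinj (i + -n)) hexact _
  have hg0 : DerivedCategory.Q.map g = 0 := by
    rw [← hg', Functor.map_comp]
    rw [Functor.map_comp] at hz
    rw [(cancel_mono (DerivedCategory.Q.map c.inv)).1 (hz.trans zero_comp.symm), zero_comp]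
  rw [← cancel_epi eF.hom, ← cancel_epi eT.inv, ← cancel_mono eJ.inv]
  simp only [Category.assoc, comp_zero, zero_comp]
  rw [← hg, hg0]

omit [CompactSpace X] [QuasiSeparatedSpace X] in
/-- Reindexed representing coproducts. -/
theorem exists_sigma_iso {I : Type u} (P : I → CochainComplex X.Modules ℤ) (M : I → DCoh.D X)
    (e : ∀ i, DerivedCategory.Q.obj (P i) ≅ M i) [HasCoproduct fun i : ULift.{u + 1} I => M i.down] :
    ∃ E : DerivedCategory.Q.obj (∐ P) ≅ ∐ fun i : ULift.{u + 1} I => M i.down,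
      ∀ i : ULift.{u + 1} I, DerivedCategory.Q.map (Sigma.ι P i.down) ≫ E.hom =
        (e i.down).hom ≫ Sigma.ι (fun i : ULift.{u + 1} I => M i.down) i := by
  let hsum : IsColimit (Cofan.mk (DerivedCategory.Q.obj (∐ P))
      (fun i => (e i).inv ≫ DerivedCategory.Q.map (Sigma.ι P i)) : Cofan M) :=
    (IsColimit.precomposeInvEquiv (Discrete.natIso fun i => e i.as) _).symm
      (KFlatLib.isColimit_Q_sigma P).some |>.ofIsoColimit (Cocone.ext (Iso.refl _) fun i => by simp)
  let hU : IsColimit (Cofan.mk (DerivedCategory.Q.obj (∐ P))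
      (fun i : ULift.{u + 1} I => (e i.down).inv ≫ DerivedCategory.Q.map (Sigma.ι P i.down)) :
        Cofan fun i : ULift.{u + 1} I => M i.down) := isColimitULift _ hsum
  refine ⟨hU.coconePointUniqueUpToIso (coproductIsCoproduct _), fun i => ?_⟩
  have := IsColimit.comp_coconePointUniqueUpToIso_hom hU
    (coproductIsCoproduct fun i : ULift.{u + 1} I => M i.down) (Discrete.mk i)
  simp only [Cofan.mk_ι_app, cofan_mk_inj, Category.assoc, Iso.inv_comp_eq] at this
  exact this

/-- Compactness against arbitrary families, under a bound on cohomological dimension. -/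
theorem finFac_of_dim {K : DCoh.D X} (hK : DCoh.IsPerfect K)
    (hd : ∀ (G : X.Modules) (i : ℕ), d < i → Subsingleton (Coh.HH X G i))
    (I : Type u) (M : I → DCoh.D X) [HasCoproduct fun i : ULift.{u + 1} I => M i.down] :
    FinFac (fun i : ULift.{u + 1} I => M i.down) K := by
  classical
  obtain ⟨N₀, hN₀⟩ := exists_hom_eq_zero hK hd
  let N := N₀ + 1
  let P := fun i => DerivedCategory.Q.objPreimage (M i)
  let e := fun i => DerivedCategory.Q.objObjPreimageIso (M i)
  let P' := fun i => (P i).truncGE N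
  let M' := fun i => DerivedCategory.Q.obj (P' i)
  let hU : IsColimit (Cofan.mk (DerivedCategory.Q.obj (∐ P'))
      (fun i : ULift.{u + 1} I => DerivedCategory.Q.map (Sigma.ι P' i.down)) :
        Cofan fun i : ULift.{u + 1} I => M' i.down) :=
    isColimitULift (Cofan.mk _ fun j => DerivedCategory.Q.map (Sigma.ι P' j))
      (KFlatLib.isColimit_Q_sigma P').some
  haveI hM' : HasCoproduct fun i : ULift.{u + 1} I => M' i.down := ⟨⟨⟨_, hU⟩⟩⟩
  obtain ⟨E, hE⟩ := exists_sigma_iso P M e
  obtain ⟨E', hE'⟩ := exists_sigma_iso P' M' fun i => Iso.refl _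
  let τ := Limits.Sigma.map fun i => (P i).πTruncGE N
  let q := E.inv ≫ DerivedCategory.Q.map τ ≫ E'.hom
  have hq : ∀ i : ULift.{u + 1} I, Sigma.ι (fun i : ULift.{u + 1} I => M i.down) i ≫ q =
      ((e i.down).inv ≫ DerivedCategory.Q.map ((P i.down).πTruncGE N)) ≫
        Sigma.ι (fun i : ULift.{u + 1} I => M' i.down) i := fun i => by
    have h : Sigma.ι (fun i : ULift.{u + 1} I => M i.down) i ≫ E.inv =
        (e i.down).inv ≫ DerivedCategory.Q.map (Sigma.ι P i.down) := by
      rw [Iso.comp_inv_eq, Category.assoc, hE, Iso.inv_hom_id_assoc]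
    rw [reassoc_of% h, ← Functor.map_comp_assoc, Sigma.ι_map, Functor.map_comp, Category.assoc, hE']
    simp [Category.assoc]
  haveI : HasFiniteBiproducts X.Modules := Abelian.hasFiniteBiproducts
  haveI : AB4OfSize.{u} X.Modules := AB4.of_AB5 X.Modules
  have hiso : ∀ j, N ≤ j → IsIso ((DerivedCategory.homologyFunctor X.Modules j).map q) := fun j hj => by
    haveI : IsIso (HomologicalComplex.homologyMap τ j) :=
      FiltSectLib.isIso_homologyMap_colimit (coproductIsCoproduct P) (coproductIsCoproduct P')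
        (Discrete.natTrans fun i => (P i.as).πTruncGE N) τ (fun i => Sigma.ι_map _ i.as) j fun i =>
        (quasiIsoAt_iff_isIso_homologyMap _ _).1 ((P i.as).quasiIsoAt_πTruncGE N j hj)
    haveI : IsIso ((DerivedCategory.homologyFunctor X.Modules j).map (DerivedCategory.Q.map τ)) :=
      (NatIso.isIso_map_iff (DerivedCategory.homologyFunctorFactors X.Modules j) τ).2 this
    simp only [q, Functor.map_comp]
    infer_instance
  obtain ⟨Z, u', δ, hT⟩ := distinguished_cocone_triangle₁ q
  have hzero : ∀ j, j < N → IsZero ((DerivedCategory.homologyFunctor X.Modules j).obj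
      (∐ fun i : ULift.{u + 1} I => M' i.down)) := fun j hj => by
    refine IsZero.of_iso ?_ (((DerivedCategory.homologyFunctor X.Modules j).mapIso E'.symm) ≪≫
      (DerivedCategory.homologyFunctorFactors X.Modules j).app (∐ P'))
    change IsZero ((∐ P').homology j)
    rw [IsZero.iff_id_eq_zero]
    refine (Groth.Agent.FreeResLib.isColimitHomology _ (coproductIsCoproduct P') j).hom_ext fun i => ?_
    exact (CochainComplex.isZero_of_isGE (P' i.as) N j hj).eq_of_src _ _
  have hZ : Z.IsLE N₀ := by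
    rw [DerivedCategory.isLE_iff]
    intro j hj
    refine (DerivedCategory.HomologySequence.exact₁ _ hT (j - 1) j (by omega)).isZero_of_both_zeros ?_ ?_
    · by_cases hj' : j = N
      · exact (hzero (j - 1) (by omega)).eq_of_src _ _
      · haveI := hiso (j - 1) (by omega)
        exact (cancel_epi ((DerivedCategory.homologyFunctor X.Modules (j - 1)).map q)).1
          ((DerivedCategory.HomologySequence.comp_δ _ hT (j - 1) j (by omega)).trans comp_zero.symm)
    · haveI := hiso j (by omega)
      refine (cancel_mono ((DerivedCategory.homologyFunctor X.Modules j).map q)).1 ?_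
      refine Eq.trans ?_ zero_comp.symm
      exact ((DerivedCategory.homologyFunctor X.Modules j).map_comp _ _).symm.trans
        ((congrArg _ (comp_distTriang_mor_zero₁₂ _ hT)).trans (Functor.map_zero _ _ _))
  intro f
  obtain ⟨S, hS⟩ := good_of_isPerfect hK I M' N (fun i => (DerivedCategory.isGE_Q_obj_iff (P' i) N).2
    inferInstance) (f ≫ q)
  have hcut : cut (fun i : ULift.{u + 1} I => M i.down) S ≫ q =
      q ≫ cut (fun i : ULift.{u + 1} I => M' i.down) S := by
    refine Sigma.hom_ext _ _ fun i => ?_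
    refine (Category.assoc _ _ _).symm.trans ?_
    rw [ι_cut, reassoc_of% (hq i), ι_cut]
    split_ifs with hi
    · exact (hq i).trans (Category.assoc _ _ _)
    · simp
  obtain ⟨h, hh⟩ := Triangle.coyoneda_exact₂ _ hT
    (f ≫ cut (fun i : ULift.{u + 1} I => M i.down) S - f) (by
      change (f ≫ cut _ S - f) ≫ q = 0
      rw [Preadditive.sub_comp, Category.assoc, hcut, ← Category.assoc, hS, sub_self])
  refine ⟨S, sub_eq_zero.1 (hh.trans ?_)⟩
  exact (congrArg (· ≫ _) (hN₀ Z hZ h)).trans zero_comp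

end PerfCompLib
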