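import Groth.Agent.PerfCompLib.Good
import Groth.Agent.KFlatLib.FreeModel
import Groth.Agent.PerfLib.Derived

/-!
# Perfect objects on quasi-compact quasi-separated schemes are compact against uniformly bounded below families
-/

set_option autoImplicit false
set_option linter.style.haveILetI false

universe u

open CategoryTheory CategoryTheory.Limits CategoryTheory.Pretriangulated AlgebraicGeometry TopologicalSpace
open Groth.Agent.PerfLib (resC resD resDQIso resCComp resCCongr)

attribute [local instance] HasDerivedCategory.standard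

namespace PerfCompLib

variable {X : Scheme.{u}}

/-- A bounded free model on an open. -/
def FreeModel (W : X.Opens) (F : CochainComplex X.Modules ℤ) : Prop :=
  ∃ E : CochainComplex W.toScheme.Modules ℤ, KFlatLib.FreeBdd E ∧
    Nonempty (DerivedCategory.Q.obj ((DCoh.restrictCx W).obj F) ≅ DerivedCategory.Q.obj E)

theorem nonempty_restrict_iso {W V : X.Opens} (h : W ≤ V) {F : CochainComplex X.Modules ℤ}
    {E : CochainComplex V.toScheme.Modules ℤ}
    (e : DerivedCategory.Q.obj ((DCoh.restrictCx V).obj F) ≅ DerivedCategory.Q.obj E) :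
    Nonempty (DerivedCategory.Q.obj ((DCoh.restrictCx W).obj F) ≅
      DerivedCategory.Q.obj ((resC (X.homOfLE h)).obj E)) := by
  let g := X.homOfLE h
  exact ⟨DerivedCategory.Q.mapIso ((resCCongr (X.homOfLE_ι h)).symm.app F ≪≫ (resCComp g V.ι).app F) ≪≫
    (resDQIso g _).symm ≪≫ (resD g).mapIso e ≪≫ resDQIso g E⟩

theorem isFinFree_res {W V : Scheme.{u}} (g : W ⟶ V) [IsOpenImmersion g] {M : V.Modules}
    (h : KFlatLib.IsFinFree M) : KFlatLib.IsFinFree ((Scheme.Modules.restrictFunctor g).obj M) :=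
  KFlatLib.isFinFree_of_iso ((Scheme.Modules.restrictFunctorIsoPullback g).app M).symm
    (KFlatLib.isFinFree_pull g h)

theorem FreeModel.mono {W V : X.Opens} (h : W ≤ V) {F : CochainComplex X.Modules ℤ}
    (hV : FreeModel V F) : FreeModel W F := by
  obtain ⟨E, ⟨⟨a, b, hE⟩, hf⟩, ⟨e⟩⟩ := hV
  exact ⟨(resC (X.homOfLE h)).obj E,
    ⟨⟨a, b, fun i hi => (Scheme.Modules.restrictFunctor _).map_isZero (hE i hi)⟩,
      fun i => isFinFree_res (X.homOfLE h) (hf i)⟩, nonempty_restrict_iso h e⟩

theorem exists_freeModel {F : CochainComplex X.Modules ℤ} (hF : DCoh.IsPerfect (DerivedCategory.Q.obj F))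
    (x : X) : ∃ W : X.Opens, x ∈ W ∧ FreeModel W F := by
  classical
  obtain ⟨V, hxV, hV⟩ := hF x
  obtain ⟨E, ⟨⟨a, b, hE⟩, hf⟩, ⟨e⟩⟩ := hV F ⟨Iso.refl _⟩
  choose U n hU hn using fun i => hf i ⟨x, hxV⟩
  let T : Opens V.toScheme.toTopCat := (Finset.Icc a b).inf U
  let W : X.Opens := V.ι ''ᵁ T
  have hxW : x ∈ W := ⟨⟨x, hxV⟩, by
    rw [SetLike.mem_coe, show T = (Finset.Icc a b).inf U from rfl]
    exact (Finset.inf_induction (p := fun T => (⟨x, hxV⟩ : V.toScheme) ∈ T) trivial
      (fun _ h₁ _ h₂ => ⟨h₁, h₂⟩) fun i _ => hU i), rfl⟩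
  have hWV : W ≤ V := V.ι_image_le _
  refine ⟨W, hxW, (resC (X.homOfLE hWV)).obj E,
    ⟨⟨a, b, fun i hi => (Scheme.Modules.restrictFunctor _).map_isZero (hE i hi)⟩, fun i => ?_⟩,
    nonempty_restrict_iso hWV e⟩
  by_cases hi : i < a ∨ b < i
  · exact KFlatLib.isFinFree_of_isZero ((Scheme.Modules.restrictFunctor _).map_isZero (hE i hi))
  · obtain ⟨e'⟩ := hn i
    let g := X.homOfLE hWV
    have hrange : Set.range g.base ⊆ Set.range (U i).ι.base := by
      rintro _ ⟨w, rfl⟩
      rw [Scheme.Opens.range_ι]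
      obtain ⟨v, hv, hv'⟩ := w.2
      have : g.base w = v := Subtype.ext ((congr($(X.homOfLE_ι hWV).base w)).trans hv'.symm)
      rw [this]
      exact (Finset.inf_le (Finset.mem_Icc.2 (by omega)) : T ≤ U i) hv
    let gi := IsOpenImmersion.lift (U i).ι g hrange
    have hgi : gi ≫ (U i).ι = g := IsOpenImmersion.lift_fac _ _ _
    have h₁ : KFlatLib.IsFinFree ((Scheme.Modules.pullback (U i).ι).obj (E.X i)) :=
      KFlatLib.isFinFree_of_iso ((Scheme.Modules.restrictFunctorIsoPullback (U i).ι).app (E.X i))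
        ⟨n i, ⟨e'⟩⟩
    refine KFlatLib.isFinFree_of_iso ?_ (KFlatLib.isFinFree_pull gi h₁)
    exact (Scheme.Modules.pullbackComp gi (U i).ι).app (E.X i) ≪≫
      (Scheme.Modules.pullbackCongr hgi).app (E.X i) ≪≫
      ((Scheme.Modules.restrictFunctorIsoPullback g).app (E.X i)).symm

/-- Extension by zero from an open with a free model is good. -/
theorem good_extU_of_freeModel {W : Opens X.toTopCat} (hW : IsCompact (W : Set X.toTopCat))
    (hW' : IsQuasiSeparated (W : Set X.toTopCat)) {F : CochainComplex X.Modules ℤ}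
    (hF : FreeModel W F) :
    Good (DerivedCategory.Q.obj (((extU W).mapHomologicalComplex (ComplexShape.up ℤ)).obj F)) := by
  obtain ⟨E, ⟨⟨a, b, hE⟩, hf⟩, ⟨e⟩⟩ := hF
  let J := CxOX.extZero (Scheme.Opens.ι W)
  let JC := J.mapHomologicalComplex (ComplexShape.up ℤ)
  let JD := J.mapDerivedCategory
  let c : ((extU W).mapHomologicalComplex (ComplexShape.up ℤ)).obj F ≅
      JC.obj ((DCoh.restrictCx W).obj F) :=
    HomologicalComplex.Hom.isoOfComponents (fun i => Iso.refl _)
      (fun i j _ => (Category.id_comp _).trans (Category.comp_id _).symm)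
  refine Good.of_iso (DerivedCategory.Q.mapIso c ≪≫ (J.mapDerivedCategoryFactors.app _).symm ≪≫
    JD.mapIso e ≪≫ J.mapDerivedCategoryFactors.app E).symm ?_
  refine prop_Q_of_bounded Good Good.of_iso Good.ext₂ Good.of_isZero (b - a).toNat (JC.obj E) a b
    (by omega) (fun i hi => J.map_isZero (hE i hi)) fun i _ _ => ?_
  obtain ⟨k, ⟨ek⟩⟩ := hf i
  refine Good.of_iso (DerivedCategory.Q.mapIso ((CochainComplex.singleFunctor X.Modules i).mapIso
    (Sigma.mapIso (fun _ : Fin k => (extZeroUnitIso W).symm) ≪≫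
      (PreservesCoproduct.iso J (fun _ : Fin k => Coh.structureModule _)).symm ≪≫ J.mapIso ek.symm))) ?_
  exact good_single_sigma _ i fun _ => good_single_freeU hW hW' i

theorem isZero_extU_bot (F : CochainComplex X.Modules ℤ) :
    IsZero (((extU (⊥ : X.Opens)).mapHomologicalComplex (ComplexShape.up ℤ)).obj F) := by
  rw [IsZero.iff_id_eq_zero]
  ext i : 1
  exact ((KFlatLib.isZero_iff_forall_stalk _).2 fun x =>
    isZero_stalk_extU (U := (⊥ : X.Opens)) (fun h => h) (F.X i)).eq_of_src _ _

variable [QuasiSeparatedSpace X]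

theorem good_extU_sup : ∀ (n : ℕ) (W : Fin n → Opens X.toTopCat) (F : CochainComplex X.Modules ℤ),
    (∀ k, IsCompact (W k : Set X.toTopCat)) → (∀ k, FreeModel (W k) F) →
      Good (DerivedCategory.Q.obj
        (((extU (Finset.univ.sup W)).mapHomologicalComplex (ComplexShape.up ℤ)).obj F))
  | 0, W, F, _, _ => by
    have : Finset.univ.sup W = (⊥ : Opens X.toTopCat) := Finset.sup_empty
    rw [this]
    exact Good.of_isZero (DerivedCategory.Q.map_isZero (isZero_extU_bot F))
  | n + 1, W, F, hc, hm => by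
    let T : Opens X.toTopCat := Finset.univ.sup fun k : Fin n => W k.succ
    have hsup : Finset.univ.sup W = W 0 ⊔ T := by
      rw [Fin.univ_succ, Finset.sup_cons, Finset.sup_map]
      rfl
    rw [hsup]
    have hqs : ∀ U : Opens X.toTopCat, IsQuasiSeparated (U : Set X.toTopCat) := fun U =>
      @IsQuasiSeparated.of_quasiSeparatedSpace _ _ ‹QuasiSeparatedSpace X› _
    have hT := good_extU_sup n (fun k => W k.succ) F (fun k => hc k.succ) fun k => hm k.succ
    have h₁ := good_extU_of_freeModel (hc 0) (hqs _) (hm 0)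
    have hinf : W 0 ⊓ T = Finset.univ.sup fun k : Fin n => W 0 ⊓ W k.succ :=
      Finset.sup_inf_distrib_left _ _ _
    have h₀ : Good (DerivedCategory.Q.obj
        (((extU (W 0 ⊓ T)).mapHomologicalComplex (ComplexShape.up ℤ)).obj F)) := by
      rw [hinf]
      exact good_extU_sup n (fun k => W 0 ⊓ W k.succ) F
        (fun k => by
          rw [Opens.coe_inf]
          exact (hqs ⊤) _ _ (Set.subset_univ _) (W 0).isOpen (hc 0) (Set.subset_univ _) (W k.succ).isOpen (hc k.succ))
        fun k => (hm 0).mono inf_le_left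
    refine Good.ext₃ _ (DerivedCategory.triangleOfSES_distinguished (shortExact_mvSeq (W 0) T F)) h₀ ?_
    haveI : HasBinaryBiproducts (DCoh.D X) := HasBinaryBiproducts.of_hasBinaryProducts
    haveI : PreservesFiniteBiproducts (DerivedCategory.Q (C := X.Modules)) :=
      Functor.preservesFiniteBiproductsOfAdditive _
    haveI : PreservesBinaryBiproducts (DerivedCategory.Q (C := X.Modules)) :=
      preservesBinaryBiproducts_of_preservesBiproducts _
    exact Good.of_iso (DerivedCategory.Q.mapBiprod _ _).symm (h₁.biprod hT)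

variable [CompactSpace X]

/-- A perfect object is good. -/
theorem good_of_isPerfect {K : DCoh.D X} (hK : DCoh.IsPerfect K) : Good K := by
  classical
  obtain ⟨F, ⟨eF⟩⟩ : ∃ F, Nonempty (DerivedCategory.Q.obj F ≅ K) :=
    ⟨_, ⟨DerivedCategory.Q.objObjPreimageIso K⟩⟩
  have hF : DCoh.IsPerfect (DerivedCategory.Q.obj F) := Groth.Agent.PerfLib.isPerfect_of_iso eF.symm hK
  choose U hxU hU using exists_freeModel hF
  choose W hW hxW hWU using fun x : X => Opens.isBasis_iff_nbhd.mp X.isBasis_affineOpens (hxU x)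
  obtain ⟨t, ht⟩ := isCompact_univ.elim_finite_subcover (fun x => (W x : Set X))
    (fun x => (W x).isOpen) (fun x _ => Set.mem_iUnion.2 ⟨x, hxW x⟩)
  let e := t.equivFin.symm
  let W' : Fin t.card → Opens X.toTopCat := fun k => W (e k).1
  have htop : Finset.univ.sup W' = (⊤ : Opens X.toTopCat) := by
    refine top_le_iff.1 fun x _ => ?_
    have := ht (Set.mem_univ x)
    simp only [Set.mem_iUnion] at this
    obtain ⟨y, hy, hxy⟩ := this
    have hle : W y ≤ Finset.univ.sup W' := by
      have := Finset.le_sup (f := W') (Finset.mem_univ (t.equivFin ⟨y, hy⟩))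
      simpa [W', e] using this
    exact hle hxy
  have h := good_extU_sup t.card W' F (fun k => (hW (e k).1).isCompact)
    fun k => (hU (e k).1).mono (hWU (e k).1)
  rw [htop] at h
  let φ := (NatTrans.mapHomologicalComplex (extι (⊤ : X.Opens)) (ComplexShape.up ℤ)).app F
  haveI : ∀ i, IsIso (φ.f i) := fun i =>
    FiltSectLib.isIso_of_stalks _ fun x => isIso_stalk_extι (U := (⊤ : X.Opens)) (TopologicalSpace.Opens.mem_top x) (F.X i)
  haveI : IsIso φ := HomologicalComplex.Hom.isIso_of_components φ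
  refine Good.of_iso ?_ h
  exact DerivedCategory.Q.mapIso (@asIso _ _ _ _ φ ‹_› ≪≫
    HomologicalComplex.Hom.isoOfComponents (fun i => Iso.refl _)
      (fun i j _ => (Category.id_comp _).trans (Category.comp_id _).symm)) ≪≫ eF

end PerfCompLib
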