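import Groth.Prelude.Def_CohDer
import Mathlib.CategoryTheory.Triangulated.Pretriangulated
import Mathlib.CategoryTheory.Limits.Preserves.Shapes.Products
import Mathlib.Algebra.DirectSum.Basic

/-!
# Maps into coproducts which factor through finite subfamilies
-/

set_option autoImplicit false

universe w v u

open CategoryTheory CategoryTheory.Limits CategoryTheory.Pretriangulated

namespace PerfCompLib

section

variable {D : Type u} [Category.{v} D] [Preadditive D]

open Classical in
/-- The idempotent of `∐ X` cutting out a finite subfamily. -/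
noncomputable def cut {ι : Type w} (X : ι → D) [HasCoproduct X] (S : Finset ι) : ∐ X ⟶ ∐ X :=
  Sigma.desc fun k => if k ∈ S then Sigma.ι X k else 0

open Classical in
theorem ι_cut {ι : Type w} (X : ι → D) [HasCoproduct X] (S : Finset ι) (k : ι) :
    Sigma.ι X k ≫ cut X S = if k ∈ S then Sigma.ι X k else 0 := Sigma.ι_desc _ _

theorem cut_cut {ι : Type w} (X : ι → D) [HasCoproduct X] {S T : Finset ι} (h : S ⊆ T) :
    cut X S ≫ cut X T = cut X S := by
  refine Sigma.hom_ext _ _ fun k => ?_
  rw [← Category.assoc, ι_cut]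
  split_ifs with hk
  · rw [ι_cut, if_pos (h hk)]
  · simp

theorem comp_cut_of_subset {ι : Type w} {X : ι → D} [HasCoproduct X] {C : D} {f : C ⟶ ∐ X}
    {S T : Finset ι} (hS : f ≫ cut X S = f) (h : S ⊆ T) : f ≫ cut X T = f := by
  rw [← hS, Category.assoc, cut_cut X h]

open Classical in
/-- The projection onto a summand. -/
noncomputable def proj {ι : Type w} (X : ι → D) [HasCoproduct X] (k : ι) : ∐ X ⟶ X k :=
  Sigma.desc fun j => if h : j = k then eqToHom (h ▸ rfl) else 0

theorem cut_eq_sum {ι : Type w} (X : ι → D) [HasCoproduct X] (S : Finset ι) :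
    cut X S = ∑ k ∈ S, proj X k ≫ Sigma.ι X k := by
  classical
  refine Sigma.hom_ext _ _ fun j => ?_
  rw [Preadditive.comp_sum, ι_cut]
  simp only [proj, Sigma.ι_desc_assoc]
  split_ifs with hj
  · rw [Finset.sum_eq_single j]
    · simp
    · intro k _ hk
      rw [dif_neg (Ne.symm hk), zero_comp]
    · exact fun h => absurd hj h
  · refine (Finset.sum_eq_zero fun k hk => ?_).symm
    rw [dif_neg (fun h : j = k => hj (h ▸ hk)), zero_comp]

/-- Every map from `K` into `∐ X` factors through a finite subfamily. -/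
def FinFac {ι : Type w} (X : ι → D) [HasCoproduct X] (K : D) : Prop :=
  ∀ f : K ⟶ ∐ X, ∃ S : Finset ι, f ≫ cut X S = f

theorem FinFac.of_iso {ι : Type w} {X : ι → D} [HasCoproduct X] {A B : D} (e : A ≅ B)
    (hA : FinFac X A) : FinFac X B := fun f => by
  obtain ⟨S, hS⟩ := hA (e.hom ≫ f)
  exact ⟨S, (cancel_epi e.hom).1 ((Category.assoc _ _ _).symm.trans hS)⟩

theorem FinFac.of_isZero {ι : Type w} {X : ι → D} [HasCoproduct X] {A : D} (h : IsZero A) :
    FinFac X A := fun _ => ⟨∅, h.eq_of_src _ _⟩

/-- Factoring through finite subfamilies makes the canonical map bijective. -/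
theorem bijective_of_finFac {ι : Type v} {X : ι → D} [HasCoproduct X] {C : D} (hC : FinFac X C) :
    Function.Bijective (CohDer.homSumToHomCoprod C X) := by
  classical
  have hof : ∀ (j : ι) (a : C ⟶ X j),
      CohDer.homSumToHomCoprod C X (DirectSum.of _ j a) = a ≫ Sigma.ι X j := fun j a => by
    simp [CohDer.homSumToHomCoprod, Preadditive.rightComp]
  refine ⟨?_, fun f => ?_⟩
  · have key : ∀ (x : DirectSum ι (fun i => C ⟶ X i)) (k : ι),
        CohDer.homSumToHomCoprod C X x ≫ proj X k = x k := by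
      intro x k
      induction x using DirectSum.induction_on with
      | zero => simp
      | of j a =>
        rw [hof, Category.assoc]
        rcases eq_or_ne j k with rfl | hjk
        · simp [proj]
        · simp [proj, hjk, DirectSum.of_eq_of_ne _ _ _ (Ne.symm hjk)]
      | add x y hx hy => rw [map_add, Preadditive.add_comp, hx, hy, DirectSum.add_apply]
    intro x y h
    exact DFunLike.ext _ _ fun k => by rw [← key x k, ← key y k, h]
  · obtain ⟨S, hS⟩ := hC f
    refine ⟨∑ k ∈ S, DirectSum.of _ k (f ≫ proj X k), ?_⟩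
    rw [map_sum]
    conv_rhs => rw [← hS, cut_eq_sum, Preadditive.comp_sum]
    exact Finset.sum_congr rfl fun k _ => (hof k _).trans (Category.assoc _ _ _)

variable [HasZeroObject D] [HasShift D ℤ] [∀ n : ℤ, (shiftFunctor D n).Additive] [Pretriangulated D]

/-- Extensions of objects with the factorization property have it. -/
theorem FinFac.ext₂ {ι : Type w} {X : ι → D} [HasCoproduct X] (T : Triangle D)
    (hT : T ∈ distTriang D) (h₁ : FinFac X T.obj₁) (h₃ : FinFac X T.obj₃) : FinFac X T.obj₂ := by
  classical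
  intro f
  obtain ⟨S, hS⟩ := h₁ (T.mor₁ ≫ f)
  obtain ⟨h, hh⟩ := Triangle.yoneda_exact₂ T hT (f - f ≫ cut X S) (by
    rw [Preadditive.comp_sub, ← Category.assoc, hS, sub_self])
  obtain ⟨R, hR⟩ := h₃ h
  refine ⟨S ∪ R, ?_⟩
  have hg : (f - f ≫ cut X S) ≫ cut X (S ∪ R) = f - f ≫ cut X S := by
    rw [hh, Category.assoc, comp_cut_of_subset hR Finset.subset_union_right]
  rw [Preadditive.sub_comp, Category.assoc, cut_cut X Finset.subset_union_left, sub_left_inj] at hg
  exact hg

theorem FinFac.shift {ι : Type w} {X : ι → D} [HasCoproduct X] {K : D} {m n : ℤ} (hmn : m + n = 0)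
    [HasCoproduct fun i => (X i)⟦n⟧] (hK : FinFac (fun i => (X i)⟦n⟧) K) : FinFac X (K⟦m⟧) := by
  intro f
  let F := shiftFunctor D n
  haveI : PreservesColimit (Discrete.functor X) F := inferInstance
  let e : ∐ (fun i => F.obj (X i)) ≅ F.obj (∐ X) := (PreservesCoproduct.iso F X).symm
  have he : ∀ i, Sigma.ι (fun i => F.obj (X i)) i ≫ e.hom = F.map (Sigma.ι X i) := fun i => by
    simp [e, PreservesCoproduct.inv_hom, ι_comp_sigmaComparison]
  have hcut : ∀ S : Finset ι, cut (fun i => F.obj (X i)) S ≫ e.hom = e.hom ≫ F.map (cut X S) := by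
    intro S
    refine Sigma.hom_ext _ _ fun i => ?_
    rw [← Category.assoc, ← Category.assoc, ι_cut, he, ← F.map_comp, ι_cut]
    split_ifs <;> simp [he]
  let c : K ≅ F.obj (K⟦m⟧) := ((shiftFunctorCompIsoId D m n hmn).app K).symm
  obtain ⟨S, hS⟩ := hK (c.hom ≫ F.map f ≫ e.inv)
  refine ⟨S, F.map_injective ((cancel_epi c.hom).1 ((cancel_mono e.inv).1 ?_))⟩
  rw [F.map_comp, Category.assoc, Category.assoc, Category.assoc]
  refine Eq.trans ?_ hS
  rw [Category.assoc, Category.assoc]
  congr 2
  rw [Iso.comp_inv_eq, Category.assoc, hcut, Iso.inv_hom_id_assoc]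

/-- Biproducts. -/
theorem FinFac.biprod [HasBinaryBiproducts D] {ι : Type w} {X : ι → D} [HasCoproduct X] {A B : D}
    (hA : FinFac X A) (hB : FinFac X B) : FinFac X (A ⊞ B) :=
  FinFac.ext₂ _ (binaryBiproductTriangle_distinguished A B) hA hB

end

end PerfCompLib
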