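import Groth.Agent.QRlimLib.AcyclicPush
import Mathlib.Algebra.Homology.DerivedCategory.ShortExact

/-!
# Dévissage of bounded complexes along their terms
-/

set_option autoImplicit false
set_option linter.style.haveILetI false

universe v u t

open CategoryTheory CategoryTheory.Limits CategoryTheory.Pretriangulated HomologicalComplex

namespace PerfCompLib

variable {A : Type u} [Category.{v} A] [Abelian A] [HasDerivedCategory.{t} A]

omit [HasDerivedCategory.{t} A] in
theorem nonempty_iso_single (C : CochainComplex A ℤ) (a : ℤ) (h : ∀ i, i ≠ a → IsZero (C.X i)) :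
    Nonempty (C ≅ (CochainComplex.singleFunctor A a).obj (C.X a)) := by
  let g : C ⟶ (HomologicalComplex.single A (ComplexShape.up ℤ) a).obj (C.X a) :=
    HomologicalComplex.mkHomToSingle (𝟙 _) fun i (hi : i + 1 = a) => (h i (by omega)).eq_of_src _ _
  haveI : ∀ i, IsIso (g.f i) := fun i => by
    by_cases hi : i = a
    · subst hi
      simp only [g, HomologicalComplex.mkHomToSingle_f]
      infer_instance
    · exact ⟨0, (h i hi).eq_of_src _ _, (isZero_single_obj_X _ a _ i hi).eq_of_src _ _⟩
  haveI : IsIso g := HomologicalComplex.Hom.isIso_of_components g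
  exact ⟨@asIso _ _ _ _ g this⟩

theorem prop_Q_of_bounded (P : DerivedCategory A → Prop)
    (hiso : ∀ {K L : DerivedCategory A}, (K ≅ L) → P K → P L)
    (hext : ∀ T ∈ distTriang (DerivedCategory A), P T.obj₁ → P T.obj₃ → P T.obj₂)
    (hzero : ∀ {K : DerivedCategory A}, IsZero K → P K) :
    ∀ (k : ℕ) (E : CochainComplex A ℤ) (a b : ℤ), b ≤ a + k → (∀ i, i < a ∨ b < i → IsZero (E.X i)) →
      (∀ i, a ≤ i → i ≤ b → P (DerivedCategory.Q.obj ((CochainComplex.singleFunctor A i).obj (E.X i)))) →
        P (DerivedCategory.Q.obj E)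
  | 0, E, a, b, hab, hE, hs => by
    have hz : ∀ i, i ≠ a → IsZero (E.X i) := fun i hi => hE i (by omega)
    obtain ⟨e⟩ := nonempty_iso_single E a hz
    by_cases hb : a ≤ b
    · exact hiso (DerivedCategory.Q.mapIso e).symm (hs a le_rfl hb)
    · have hz' : IsZero E := by
        rw [IsZero.iff_id_eq_zero]
        ext i : 1
        exact (hE i (by omega)).eq_of_src _ _
      exact hzero (DerivedCategory.Q.map_isZero hz')
  | k + 1, E, a, b, hab, hE, hs => by
    obtain ⟨E', ι, hE', hι⟩ := QRlimLib.exists_brutal E (a + 1)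
    haveI := hE'
    haveI : Mono ι := HomologicalComplex.mono_of_mono_f _ fun i => by
      by_cases hi : a + 1 ≤ i
      · have := hι i hi
        infer_instance
      · exact ⟨fun _ _ _ => (CochainComplex.isZero_of_isStrictlyGE E' (a + 1) i (by omega)).eq_of_tgt _ _⟩
    let S := ShortComplex.mk ι (cokernel.π ι) (cokernel.condition ι)
    have hS : S.ShortExact :=
      { exact := ShortComplex.exact_cokernel _
        mono_f := inferInstanceAs (Mono ι)
        epi_g := inferInstanceAs (Epi (cokernel.π ι)) }
    have hX' : ∀ i, (i < a + 1 ∨ b < i) → IsZero (E'.X i) := fun i hi => by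
      by_cases h : a + 1 ≤ i
      · have := hι i h
        exact (hE i (by omega)).of_iso (asIso (ι.f i))
      · exact CochainComplex.isZero_of_isStrictlyGE E' (a + 1) i (by omega)
    have hev : ∀ i, (S.map (HomologicalComplex.eval A _ i)).ShortExact := fun i => hS.map_of_exact _
    have hC : ∀ i, i ≠ a → IsZero (S.X₃.X i) := fun i hi => by
      by_cases h : a + 1 ≤ i
      · haveI := hι i h
        haveI : Epi ((cokernel.π ι).f i) := (hev i).epi_g
        refine IsZero.of_epi_eq_zero ((cokernel.π ι).f i) ((cancel_epi (ι.f i)).1 ?_)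
        exact (congrArg (fun φ => Hom.f φ i) (cokernel.condition ι)).trans comp_zero.symm
      · haveI : Epi ((cokernel.π ι).f i) := (hev i).epi_g
        exact IsZero.of_epi ((cokernel.π ι).f i) (hE i (by omega))
    obtain ⟨eC⟩ := nonempty_iso_single S.X₃ a hC
    refine hext _ (DerivedCategory.triangleOfSES_distinguished hS) ?_ ?_
    · refine prop_Q_of_bounded P hiso hext hzero k E' (a + 1) b (by omega) hX' fun i h₁ h₂ => ?_
      have := hι i h₁
      exact hiso (DerivedCategory.Q.mapIso ((CochainComplex.singleFunctor A i).mapIso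
        (asIso (ι.f i)).symm)) (hs i (by omega) h₂)
    · have hπ : IsIso ((cokernel.π ι).f a) := by
        haveI : Mono ((cokernel.π ι).f a) := (hev a).exact.mono_g
          ((CochainComplex.isZero_of_isStrictlyGE E' (a + 1) a (by omega)).eq_of_src _ _)
        haveI : Epi ((cokernel.π ι).f a) := (hev a).epi_g
        exact isIso_of_mono_of_epi _
      by_cases hb : a ≤ b
      · exact hiso (DerivedCategory.Q.mapIso ((CochainComplex.singleFunctor A a).mapIso
          (asIso ((cokernel.π ι).f a)) ≪≫ eC.symm)) (hs a le_rfl hb)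
      · exact hzero (DerivedCategory.Q.map_isZero (IsZero.of_iso ((CochainComplex.singleFunctor A a).map_isZero
          ((hE a (by omega)).of_iso (asIso ((cokernel.π ι).f a)).symm)) eC))

end PerfCompLib
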