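import Groth.Agent.PerfCompLib.Core
import Groth.Agent.PerfCompLib.ExtZero
import Groth.Agent.FiltSectLib.CommQCoh
import Groth.Agent.KFlatLib.PerfectPull

/-!
# Free modules on quasi-compact opens
-/

set_option autoImplicit false
set_option linter.style.haveILetI false

universe w u

open CategoryTheory CategoryTheory.Limits AlgebraicGeometry TopologicalSpace Opposite
open QCohLib (toAbF)

attribute [local instance] HasDerivedCategory.standard

namespace PerfCompLib

variable {X : Scheme.{u}}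

theorem qcFlasqueM_biprod {M N : X.Modules} (hM : FiltSectLib.QcFlasqueM M)
    (hN : FiltSectLib.QcFlasqueM N) : FiltSectLib.QcFlasqueM (M ⊞ N) := fun V U h hV hU hU' s => by
  let φ : ∀ {A B : X.Modules} (_ : A ⟶ B) (W : X.Opens), Γ(A, W) → Γ(B, W) := fun g W => g.app W
  obtain ⟨a, ha⟩ := hM h hV hU hU' ((biprod.fst : M ⊞ N ⟶ M).app V s)
  obtain ⟨b, hb⟩ := hN h hV hU hU' ((biprod.snd : M ⊞ N ⟶ N).app V s)
  refine ⟨(biprod.inl : M ⟶ M ⊞ N).app U a + (biprod.inr : N ⟶ M ⊞ N).app U b, ?_⟩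
  refine (map_add _ _ _).trans ?_
  have h1 := QCohLib.app_map (biprod.inl : M ⟶ M ⊞ N) (homOfLE h) a
  have h2 := QCohLib.app_map (biprod.inr : N ⟶ M ⊞ N) (homOfLE h) b
  refine (congrArg₂ (· + ·) (h1.symm.trans (congrArg _ ha)) (h2.symm.trans (congrArg _ hb))).trans ?_
  have e := congrArg (fun g : M ⊞ N ⟶ M ⊞ N => g.app V s) (biprod.total (X := M) (Y := N))
  exact e

theorem exists_app_eq {S : ShortComplex X.Modules} (hS : S.ShortExact)
    (h₁ : FiltSectLib.QcFlasqueM S.X₁) {U : Opens X.toTopCat} (hU : IsCompact (U : Set X.toTopCat))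
    (hU' : IsQuasiSeparated (U : Set X.toTopCat)) (s : Γ(S.X₃, U)) :
    ∃ t : Γ(S.X₂, U), S.g.app U t = s := by
  haveI : Subsingleton (QCohLib.HU (S.map (toAbF X)).X₁ 1 U) :=
    FiltSectLib.subsingleton_of_qcFlasque (FiltSectLib.isBasis_compact X) 0 h₁ hU hU'
  exact QCohLib.exists_lift_of_subsingleton (QCohLib.toAbF_shortExact hS) s

theorem qcFlasqueM_quot {S : ShortComplex X.Modules} (hS : S.ShortExact)
    (h₁ : FiltSectLib.QcFlasqueM S.X₁) (h₂ : FiltSectLib.QcFlasqueM S.X₂) :
    FiltSectLib.QcFlasqueM S.X₃ := fun V U h hV hU hU' s => by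
  obtain ⟨t, ht⟩ := exists_app_eq hS h₁ hV
    (fun _ _ a b c d e f => hU' _ _ (a.trans h) b c (d.trans h) e f) s
  obtain ⟨t', ht'⟩ := h₂ h hV hU hU' t
  exact ⟨S.g.app U t', ((QCohLib.app_map S.g (homOfLE h) t').symm.trans (congrArg _ ht')).trans ht⟩

theorem acycClass_freeU {U : Opens X.toTopCat} (hU : IsCompact (U : Set X.toTopCat))
    (hU' : IsQuasiSeparated (U : Set X.toTopCat)) :
    AcycClass (KFlatLib.freeU U) (FiltSectLib.QcFlasqueM (X := X)) where
  injective I hI := FiltSectLib.qcFlasqueM_of_injective I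
  sigma I hI := FiltSectLib.qcFlasqueM_colimit_injective_discrete (Discrete.functor I) _
    (coproductIsCoproduct I) fun j => hI j.as
  iso e h := FiltSectLib.qcFlasqueM_of_iso e h
  biprod := qcFlasqueM_biprod
  lift {S} hS h₁ g := by
    obtain ⟨t, ht⟩ := exists_app_eq hS h₁ hU hU' (KFlatLib.freeUEquiv U _ g)
    refine ⟨KFlatLib.secMap t, (KFlatLib.freeUEquiv U _).injective ?_⟩
    rw [KFlatLib.freeUEquiv_comp, KFlatLib.secMap, Equiv.apply_symm_apply]
    exact ht
  quot := qcFlasqueM_quot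

theorem exists_cut_freeU {U : Opens X.toTopCat} (hU : IsCompact (U : Set X.toTopCat))
    (hU' : IsQuasiSeparated (U : Set X.toTopCat)) {ι : Type u} (Y : ι → X.Modules)
    (g : KFlatLib.freeU U ⟶ ∐ Y) : ∃ S : Finset ι, g ≫ cut Y S = g := by
  classical
  let hc := CoproductsFromFiniteFiltered.isColimitFiniteSubproductsCocone Y
  obtain ⟨S, s, hs⟩ := FiltSectLib.exists_lift (isColimitOfPreserves (toAbF X) hc)
    (FiltSectLib.isBasis_compact X) hU hU' (KFlatLib.freeUEquiv U _ g)
  let a := (CoproductsFromFiniteFiltered.finiteSubcoproductsCocone Y).ι.app S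
  have hg : KFlatLib.secMap s ≫ a = g := by
    apply (KFlatLib.freeUEquiv U _).injective
    rw [KFlatLib.freeUEquiv_comp, KFlatLib.secMap, Equiv.apply_symm_apply]
    exact hs
  refine ⟨S.image Discrete.as, ?_⟩
  rw [← hg]
  refine (Category.assoc _ _ _).trans (congrArg (_ ≫ ·) ?_)
  refine Sigma.hom_ext _ _ fun x => ?_
  have e : Sigma.ι _ x ≫ a = Sigma.ι Y x.1.as := Sigma.ι_desc _ _
  refine ((Category.assoc _ _ _).symm.trans (congrArg (· ≫ _) e)).trans (Eq.trans ?_ e.symm)
  exact (ι_cut Y _ _).trans (if_pos (Finset.mem_image_of_mem _ x.2))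

/-- `freeU U` is compact against uniformly bounded below families. -/
theorem finFac_freeU {U : Opens X.toTopCat} (hU : IsCompact (U : Set X.toTopCat))
    (hU' : IsQuasiSeparated (U : Set X.toTopCat)) {I : Type u} (M : I → DCoh.D X)
    [HasCoproduct fun i : ULift.{w} I => M i.down] (a : ℤ) (hM : ∀ i, (M i).IsGE a) :
    FinFac (fun i : ULift.{w} I => M i.down)
      (DerivedCategory.Q.obj ((CochainComplex.singleFunctor X.Modules 0).obj (KFlatLib.freeU U))) :=
  finFac_single (acycClass_freeU hU hU') (fun Y g => exists_cut_freeU hU hU' Y g) M a hM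

/-- Extensions by zero of the structure sheaf corepresent sections. -/
noncomputable def extHomEquiv (U : X.Opens) (M : X.Modules) :
    ((CxOX.extZero U.ι).obj (Coh.structureModule U.toScheme) ⟶ M) ≃ Γ(M, U.ι ''ᵁ ⊤) :=
  ((CxOX.extZeroAdj U.ι).homEquiv _ _).trans
    (((KFlatLib.structureIso U.toScheme).symm.homCongr (Iso.refl _)).trans
      (KFlatLib.freeUEquiv ⊤ ((Scheme.Modules.restrictFunctor U.ι).obj M)))

/-- Extensions by zero of the structure sheaf are free on the open. -/
noncomputable def extZeroUnitIso (U : X.Opens) :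
    (CxOX.extZero U.ι).obj (Coh.structureModule U.toScheme) ≅ KFlatLib.freeU U :=
  ModSiteLib.isoOfHomEquiv
    (fun M => (extHomEquiv U M).trans (KFlatLib.freeUEquiv (U.ι ''ᵁ ⊤) M).symm)
    (fun {M N} a p => (KFlatLib.freeUEquiv (U.ι ''ᵁ ⊤) N).injective (by
      simp only [Equiv.trans_apply, KFlatLib.freeUEquiv_comp, Equiv.apply_symm_apply]
      simp only [extHomEquiv, Equiv.trans_apply, Adjunction.homEquiv_naturality_right,
        Iso.homCongr_apply, Iso.refl_hom, Category.comp_id, ← Category.assoc,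
        KFlatLib.freeUEquiv_comp]
      rfl)) ≪≫
    eqToIso (congrArg KFlatLib.freeU U.ι_image_top)

end PerfCompLib
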