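import Groth.Agent.PerfCompLib.Fac
import Groth.Agent.DerLib.LerayAcyclic
import Groth.Agent.FiltSectLib.Resol
import Groth.Agent.KFlatLib.DerivedCoprod
import Mathlib.Algebra.Homology.HomotopyCategory.HomComplexSingle

/-!
# Compactness of an object against uniformly bounded below families
-/

set_option autoImplicit false
set_option linter.style.haveILetI false

universe v u t w

open CategoryTheory CategoryTheory.Limits HomologicalComplex CochainComplex.HomComplex
open Groth.Agent.DerLib

namespace PerfCompLib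

variable {A : Type u} [Category.{v} A] [Abelian A] [IsGrothendieckAbelian.{v} A]
  [HasDerivedCategory.{t} A]

/-- A class of objects acyclic for maps out of `P`. -/
structure AcycClass (P : A) (F : A → Prop) : Prop where
  injective : ∀ I : A, Injective I → F I
  sigma : ∀ {ι : Type v} (I : ι → A), (∀ i, Injective (I i)) → F (∐ I)
  iso : ∀ {M N : A}, (M ≅ N) → F M → F N
  biprod : ∀ {M N : A}, F M → F N → F (M ⊞ N)
  lift : ∀ {S : ShortComplex A}, S.ShortExact → F S.X₁ → ∀ g : P ⟶ S.X₃, ∃ l : P ⟶ S.X₂, l ≫ S.g = g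
  quot : ∀ {S : ShortComplex A}, S.ShortExact → F S.X₁ → F S.X₂ → F S.X₃

variable {P : A} {F : A → Prop}

omit [HasDerivedCategory.{t} A] [IsGrothendieckAbelian.{v} A] in
theorem epi_toCycles {Z : CochainComplex A ℤ} {m n : ℤ} (hmn : m + 1 = n) (h : Z.ExactAt n) :
    Epi (Z.toCycles m n) :=
  Preadditive.epi_of_isZero_cokernel' _ (Z.homologyIsCokernel m n (by simp; omega))
    ((exactAt_iff_isZero_homology _ _).1 h)

omit [HasDerivedCategory.{t} A] in
theorem AcycClass.cycles (hF : AcycClass P F) (Z : CochainComplex A ℤ) (b : ℤ) [Z.IsStrictlyGE b]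
    (hZ : Z.Acyclic) (hterm : ∀ n, F (Z.X n)) (n : ℤ) : F (Z.cycles n) := by
  have hzero : ∀ m, m < b → F (Z.cycles m) := fun m hm => by
    haveI : Mono (Z.iCycles m) := inferInstance
    have : IsZero (Z.cycles m) :=
      IsZero.of_mono (Z.iCycles m) (CochainComplex.isZero_of_isStrictlyGE Z b m hm)
    exact hF.injective _ ⟨fun f g _ => ⟨0, (this.eq_of_tgt _ _)⟩⟩
  obtain ⟨k, hk⟩ : ∃ k : ℕ, n < b + k := ⟨(n - b + 1).toNat, by omega⟩
  induction k generalizing n with
  | zero => exact hzero n (by omega)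
  | succ k ih =>
    have hw : Z.iCycles (n - 1) ≫ Z.toCycles (n - 1) n = 0 := by
      rw [← cancel_mono (Z.iCycles n)]
      simp
    let S := ShortComplex.mk (Z.iCycles (n - 1)) (Z.toCycles (n - 1) n) hw
    have hS : S.ShortExact :=
      { exact := by
          refine ShortComplex.exact_of_f_is_kernel _ ?_
          refine isKernelOfComp (Z.iCycles n) _ (Z.cyclesIsKernel (n - 1) n (by simp)) hw ?_
          exact Z.toCycles_i _ _
        mono_f := inferInstanceAs (Mono (Z.iCycles _))
        epi_g := epi_toCycles (by omega) (hZ n) }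
    exact hF.quot hS (ih (n - 1) (by omega)) (hterm _)

omit [HasDerivedCategory.{t} A] in
/-- `Hom(P, -)` is exact on bounded below acyclic complexes of acyclic objects. -/
theorem AcycClass.exists_d_eq (hF : AcycClass P F) (Z : CochainComplex A ℤ) (b : ℤ) [Z.IsStrictlyGE b]
    (hZ : Z.Acyclic) (hterm : ∀ n, F (Z.X n)) (n m : ℤ) (hmn : m + 1 = n) (z : P ⟶ Z.X n)
    (hz : z ≫ Z.d n (n + 1) = 0) : ∃ y : P ⟶ Z.X m, y ≫ Z.d m n = z := by
  have hw : Z.iCycles m ≫ Z.toCycles m n = 0 := by
    rw [← cancel_mono (Z.iCycles n)]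
    simp
  let S := ShortComplex.mk (Z.iCycles m) (Z.toCycles m n) hw
  have hS : S.ShortExact :=
    { exact := by
        refine ShortComplex.exact_of_f_is_kernel _ ?_
        refine isKernelOfComp (Z.iCycles n) _ (Z.cyclesIsKernel m n (by simp [hmn])) hw ?_
        exact Z.toCycles_i _ _
      mono_f := inferInstanceAs (Mono (Z.iCycles _))
      epi_g := epi_toCycles hmn (hZ n) }
  obtain ⟨y, hy⟩ := hF.lift hS (hF.cycles Z b hZ hterm m) (Z.liftCycles z (n + 1) (by simp) hz)
  exact ⟨y, by rw [← Z.toCycles_i m n, ← Category.assoc]; exact (congrArg (· ≫ _) hy).trans (by simp)⟩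

omit [IsGrothendieckAbelian.{v} A] in
theorem Q_map_eq_of_single {K : CochainComplex A ℤ} {P : A}
    (g h : (CochainComplex.singleFunctor A 0).obj P ⟶ K) (r : P ⟶ K.X (-1))
    (e : Cochain.fromSingleEquiv (p := 0) (q := 0) (n := 0) rfl (Cochain.ofHom g) =
      r ≫ K.d (-1) 0 + Cochain.fromSingleEquiv (p := 0) (q := 0) (n := 0) rfl (Cochain.ofHom h)) :
    DerivedCategory.Q.map g = DerivedCategory.Q.map h := by
  have ho : Homotopy g h := (Cochain.equivHomotopy g h).symm
    ⟨Cochain.fromSingleMk r (by omega), (Cochain.fromSingleEquiv (p := 0) (q := 0) (n := 0) rfl).injective (by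
      rw [Cochain.δ_fromSingleMk _ _ _ 0 (by omega), map_add, e,
        Cochain.fromSingleEquiv_fromSingleMk])⟩
  rw [← cancel_mono ((DerivedCategory.quotientCompQhIso A).inv.app K),
    ← cancel_epi ((DerivedCategory.quotientCompQhIso A).hom.app _)]
  erw [(DerivedCategory.quotientCompQhIso A).inv.naturality g,
    (DerivedCategory.quotientCompQhIso A).inv.naturality h]
  rw [Functor.comp_map, Functor.comp_map, HomotopyCategory.eq_of_homotopy g h ho]

theorem exists_Q_map_eq (hF : AcycClass P F) (C : CochainComplex A ℤ) (a : ℤ) [C.IsStrictlyGE a]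
    (hterm : ∀ n, F (C.X n))
    (f : DerivedCategory.Q.obj ((CochainComplex.singleFunctor A 0).obj P) ⟶ DerivedCategory.Q.obj C) :
    ∃ y : (CochainComplex.singleFunctor A 0).obj P ⟶ C, DerivedCategory.Q.map y = f := by
  obtain ⟨R, i, hR, hinj, -, hi⟩ := Horseshoe.exists_injective_resolution C a
  haveI := hR
  haveI := hinj
  haveI := hi
  haveI : R.IsKInjective := CochainComplex.isKInjective_of_injective R a
  obtain ⟨g, hg⟩ := KInjUse.Q_map_surjective _ R (f ≫ DerivedCategory.Q.map i)
  let Z := CochainComplex.mappingCone i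
  haveI : Z.IsStrictlyGE (a - 1) := by
    rw [CochainComplex.isStrictlyGE_iff]
    intro n hn
    refine IsZero.of_iso ?_ (HomologicalComplex.homotopyCofiber.XIsoBiprod i n (n + 1) (by simp))
    exact (biprod_isZero_iff _ _).2 ⟨CochainComplex.isZero_of_isStrictlyGE C a _ (by omega),
      CochainComplex.isZero_of_isStrictlyGE R a _ (by omega)⟩
  have hZ : Z.Acyclic := LerayAcyclic.acyclic_mappingCone i
  have hZterm : ∀ n, F (Z.X n) := fun n =>
    hF.iso (HomologicalComplex.homotopyCofiber.XIsoBiprod i n (n + 1) (by simp)).symm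
      (hF.biprod (hterm _) (hF.injective _ (hinj n)))
  let z : P ⟶ R.X 0 := Cochain.fromSingleEquiv (p := 0) (q := 0) (n := 0) rfl (Cochain.ofHom g)
  have hz : z ≫ R.d 0 1 = 0 := by
    change ((singleObjXSelf (.up ℤ) 0 P).inv ≫ (Cochain.ofHom g).v 0 0 rfl) ≫ R.d 0 1 = 0
    rw [Cochain.ofHom_v, Category.assoc]
    refine (congrArg (_ ≫ ·) (g.comm 0 1)).trans ?_
    exact (congrArg (_ ≫ ·) ((congrArg (· ≫ g.f 1)
      (HomologicalComplex.single_obj_d (c := ComplexShape.up ℤ) 0 P 0 1)).trans zero_comp)).trans comp_zero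
  obtain ⟨w, hw⟩ := hF.exists_d_eq Z (a - 1) hZ hZterm 0 (-1) (by omega)
    (z ≫ (CochainComplex.mappingCone.inr i).f 0) (by
      rw [Category.assoc, (CochainComplex.mappingCone.inr i).comm, ← Category.assoc]
      exact (congrArg (· ≫ _) hz).trans zero_comp)
  let y₀ : P ⟶ C.X 0 := w ≫ (CochainComplex.mappingCone.fst i).1.v (-1) 0 (by omega)
  let r : P ⟶ R.X (-1) := w ≫ (CochainComplex.mappingCone.snd i).v (-1) (-1) (add_zero _)
  have h₁ : y₀ ≫ C.d 0 1 = 0 := by
    have e := congrArg (· ≫ (CochainComplex.mappingCone.fst i).1.v 0 1 (by omega)) hw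
    simp only [Z, Category.assoc, CochainComplex.mappingCone.d_fst_v i (-1) 0 1 (by omega) (by omega),
      CochainComplex.mappingCone.inr_f_fst_v, comp_zero] at e
    simpa [y₀, Z] using e
  have h₂ : y₀ ≫ i.f 0 + r ≫ R.d (-1) 0 = z := by
    have e := congrArg (· ≫ (CochainComplex.mappingCone.snd i).v 0 0 (add_zero _)) hw
    simp only [Z, Category.assoc, CochainComplex.mappingCone.d_snd_v i (-1) 0 (by omega),
      CochainComplex.mappingCone.inr_f_snd_v, Category.comp_id, Preadditive.comp_add] at e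
    simpa [y₀, r, Z] using e
  let y := Cocycle.homOf (Cocycle.fromSingleMk y₀ (p := 0) (n := 0) rfl 1 rfl h₁)
  refine ⟨y, (cancel_mono (DerivedCategory.Q.map i)).1 ?_⟩
  rw [← hg, ← Functor.map_comp]
  refine (Q_map_eq_of_single g (y ≫ i) r ?_).symm
  rw [Cochain.ofHom_comp, Cocycle.cochain_ofHom_homOf_eq_coe]
  change z = r ≫ R.d (-1) 0 + Cochain.fromSingleEquiv (p := 0) (q := 0) (n := 0) rfl
    ((Cochain.fromSingleMk (p := 0) (n := 0) y₀ rfl).comp (Cochain.ofHom i) (add_zero 0))
  rw [← Cochain.fromSingleMk_postcomp, Cochain.fromSingleEquiv_fromSingleMk, add_comm, h₂]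

/-- Reindexing a colimit cofan along `ULift`. -/
noncomputable def isColimitULift {D : Type*} [Category D] {I : Type v} {M : I → D} (c : Cofan M)
    (h : IsColimit c) :
    IsColimit (Cofan.mk c.pt fun i : ULift.{w} I => c.inj i.down : Cofan fun i : ULift.{w} I => M i.down) :=
  Cofan.IsColimit.mk _ (fun s => Cofan.IsColimit.desc h fun i => s.inj ⟨i⟩)
    (fun s i => Cofan.IsColimit.fac h _ i.down)
    (fun s m hm => Cofan.IsColimit.hom_ext h _ _ fun i =>
      (hm ⟨i⟩).trans (Cofan.IsColimit.fac h (fun i => s.inj ⟨i⟩) i).symm)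

/-- The compactness of `P` against uniformly bounded below families. -/
theorem finFac_single (hF : AcycClass P F)
    (hP : ∀ {ι : Type v} (Y : ι → A) (g : P ⟶ ∐ Y), ∃ S : Finset ι, g ≫ cut Y S = g)
    {I : Type v} (M : I → DerivedCategory A) [HasCoproduct fun i : ULift.{w} I => M i.down]
    (a : ℤ) (hM : ∀ i, (M i).IsGE a) :
    FinFac (fun i : ULift.{w} I => M i.down)
      (DerivedCategory.Q.obj ((CochainComplex.singleFunctor A 0).obj P)) := by
  classical
  have hres : ∀ i, ∃ L : CochainComplex A ℤ, L.IsStrictlyGE a ∧ (∀ n, Injective (L.X n)) ∧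
      Nonempty (DerivedCategory.Q.obj L ≅ M i) := fun i => by
    haveI := hM i
    obtain ⟨L₀, hL₀, ⟨e⟩⟩ := DerivedCategory.exists_iso_Q_obj_of_isGE (M i) a
    obtain ⟨R, r, hR, hinj, -, hr⟩ := Horseshoe.exists_injective_resolution L₀ a
    haveI := hr
    exact ⟨R, hR, hinj, ⟨(asIso (DerivedCategory.Q.map r)).symm ≪≫ e.symm⟩⟩
  choose L hL hinj he using hres
  let e := fun i => (he i).some
  let hsum : IsColimit (Cofan.mk (DerivedCategory.Q.obj (∐ L))
      (fun i => (e i).inv ≫ DerivedCategory.Q.map (Sigma.ι L i)) : Cofan M) :=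
    (IsColimit.precomposeInvEquiv (Discrete.natIso fun i => e i.as) _).symm
      (KFlatLib.isColimit_Q_sigma L).some |>.ofIsoColimit (Cocone.ext (Iso.refl _) fun i => by simp)
  let E := (coproductIsCoproduct fun i : ULift.{w} I => M i.down).coconePointUniqueUpToIso
    (isColimitULift _ hsum)
  have hE : ∀ i : ULift.{w} I, Sigma.ι (fun i : ULift.{w} I => M i.down) i ≫ E.hom =
      (e i.down).inv ≫ DerivedCategory.Q.map (Sigma.ι L i.down) := fun i =>
    IsColimit.comp_coconePointUniqueUpToIso_hom _ (isColimitULift _ hsum) (Discrete.mk i)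
  have hev : ∀ n, IsColimit (Cofan.mk ((∐ L).X n) fun i => (Sigma.ι L i).f n) := fun n =>
    isColimitMapCoconeCofanMkEquiv (eval A _ n) _ _ (isColimitOfPreserves (eval A _ n) (coproductIsCoproduct L))
  haveI : CochainComplex.IsStrictlyGE (∐ L) a := by
    rw [CochainComplex.isStrictlyGE_iff]
    intro n hn
    rw [IsZero.iff_id_eq_zero]
    exact Cofan.IsColimit.hom_ext (hev n) _ _ fun i =>
      (@CochainComplex.isZero_of_isStrictlyGE _ _ _ (L i) a n hn (hL i)).eq_of_src _ _
  have hterm : ∀ n, F ((∐ L).X n) := fun n =>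
    hF.iso ((coproductIsCoproduct fun i => (L i).X n).coconePointUniqueUpToIso (hev n))
      (hF.sigma _ fun i => hinj i n)
  intro f
  obtain ⟨y, hy⟩ := exists_Q_map_eq hF (∐ L) a hterm (f ≫ E.hom)
  let E₀ := (coproductIsCoproduct fun i => (L i).X 0).coconePointUniqueUpToIso (hev 0)
  obtain ⟨S, hS⟩ := hP (fun i => (L i).X 0)
    ((singleObjXSelf (.up ℤ) 0 P).inv ≫ y.f 0 ≫ E₀.inv)
  have hcut : cut (fun i => (L i).X 0) S ≫ E₀.hom = E₀.hom ≫ (cut L S).f 0 := by
    refine Sigma.hom_ext _ _ fun i => ?_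
    have h0 : ∀ k, Sigma.ι (fun i => (L i).X 0) k ≫ E₀.hom = (Sigma.ι L k).f 0 := fun k =>
      IsColimit.comp_coconePointUniqueUpToIso_hom _ (hev 0) (Discrete.mk k)
    rw [← Category.assoc, ← Category.assoc, ι_cut, h0, ← HomologicalComplex.comp_f, ι_cut]
    split_ifs <;> simp [h0]
  have hyc : y ≫ cut L S = y := by
    refine HomologicalComplex.from_single_hom_ext ?_
    have := congrArg (fun φ => (singleObjXSelf (.up ℤ) 0 P).hom ≫ φ ≫ E₀.hom) hS
    simp only [Category.assoc, hcut] at this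
    simp only [Iso.hom_inv_id_assoc, Iso.inv_hom_id_assoc, Iso.inv_hom_id, Category.comp_id] at this
    rw [HomologicalComplex.comp_f]
    exact this
  refine ⟨S.map ⟨ULift.up, ULift.up_injective⟩, (cancel_mono E.hom).1 ?_⟩
  have hQcut : cut (fun i : ULift.{w} I => M i.down) (S.map ⟨ULift.up, ULift.up_injective⟩) ≫ E.hom =
      E.hom ≫ DerivedCategory.Q.map (cut L S) := by
    refine Sigma.hom_ext _ _ fun i => ?_
    obtain ⟨i⟩ := i
    rw [← Category.assoc, ← Category.assoc, ι_cut, hE, Category.assoc, ← Functor.map_comp, ι_cut]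
    simp only [Finset.mem_map, Function.Embedding.coeFn_mk, ULift.up.injEq, exists_eq_right]
    split_ifs with hi
    · exact hE ⟨i⟩
    · simp
  rw [Category.assoc, hQcut, ← Category.assoc, ← hy, ← Functor.map_comp, hyc]

end PerfCompLib
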