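import Mathlib.Algebra.Homology.HomotopyCategory.HomComplex
import Mathlib.CategoryTheory.Limits.Shapes.Products
import Mathlib.CategoryTheory.Adjunction.Basic
import Mathlib.CategoryTheory.Adjunction.Additive
import Mathlib.CategoryTheory.Abelian.Basic

/-!
# The internal hom complex as a representing complex
-/

set_option autoImplicit false
set_option linter.style.haveILetI false

universe v u

open CategoryTheory CategoryTheory.Limits CochainComplex.HomComplex

namespace PerfCompLib.HomCx

variable {A : Type u} [Category.{v} A] [Preadditive A] [HasProductsOfShape ℤ A]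
  {T : A ⥤ CochainComplex A ℤ} {R : ℤ → A ⥤ A}
  (adj : ∀ i, T ⋙ HomologicalComplex.eval A (ComplexShape.up ℤ) i ⊣ R i) (I : CochainComplex A ℤ)

/-- The terms representing cochains. -/
noncomputable abbrev obj {T : A ⥤ CochainComplex A ℤ} {R : ℤ → A ⥤ A}
    (_adj : ∀ i, T ⋙ HomologicalComplex.eval A (ComplexShape.up ℤ) i ⊣ R i) (I : CochainComplex A ℤ)
    (n : ℤ) : A := ∏ᶜ fun i : ℤ => (R i).obj (I.X (i + n))

/-- Maps into `obj n` are cochains of degree `n`. -/
noncomputable def equiv (n : ℤ) (M : A) : (M ⟶ obj adj I n) ≃ Cochain (T.obj M) I n where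
  toFun φ := Cochain.mk fun p q hpq =>
    ((adj p).homEquiv M (I.X (p + n))).symm (φ ≫ Pi.π _ p) ≫ eqToHom (by rw [hpq])
  invFun z := Pi.lift fun i => (adj i).homEquiv M (I.X (i + n)) (z.v i (i + n) rfl)
  left_inv φ := Pi.hom_ext _ _ fun i => by simp
  right_inv z := by
    ext p q hpq
    subst hpq
    simp

theorem equiv_precomp (n : ℤ) {M M' : A} (f : M' ⟶ M) (φ : M ⟶ obj adj I n) :
    equiv adj I n M' (f ≫ φ) =
      (Cochain.ofHom (T.map f)).comp (equiv adj I n M φ) (zero_add n) := by
  ext p q hpq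
  subst hpq
  simp [equiv, Adjunction.homEquiv_naturality_left_symm]
  exact Category.assoc _ _ _

/-- The differential. -/
noncomputable def d (n m : ℤ) : obj adj I n ⟶ obj adj I m :=
  (equiv adj I m _).symm (δ n m (equiv adj I n _ (𝟙 _)))

theorem equiv_comp_d (n m : ℤ) {M : A} (φ : M ⟶ obj adj I n) :
    equiv adj I m M (φ ≫ d adj I n m) = δ n m (equiv adj I n M φ) := by
  rw [equiv_precomp, d, Equiv.apply_symm_apply]
  by_cases h : n + 1 = m
  · conv_rhs => rw [← Category.comp_id φ, equiv_precomp, δ_ofHom_comp]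
  · rw [δ_shape _ _ h, δ_shape _ _ h, Cochain.comp_zero]

theorem equiv_zero (n : ℤ) (M : A) (h : ∀ i, (adj i).homEquiv M (I.X (i + n)) 0 = 0) :
    equiv adj I n M 0 = 0 := by
  apply (equiv adj I n M).symm.injective
  rw [Equiv.symm_apply_apply]
  refine (Pi.hom_ext _ _ fun i => ?_)
  simp only [equiv, zero_comp, Equiv.coe_fn_symm_mk, Pi.lift, limit.lift_π, Fan.mk_π_app, Cochain.zero_v]
  exact (h i).symm

variable [T.Additive]

theorem homEquiv_zero (n i : ℤ) (M : A) : (adj i).homEquiv M (I.X (i + n)) 0 = 0 := by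
  haveI : (R i).Additive := (adj i).right_adjoint_additive
  exact ((adj i).homAddEquiv M (I.X (i + n))).map_zero

theorem equiv_eq_zero_iff (n : ℤ) {M : A} (φ : M ⟶ obj adj I n) :
    equiv adj I n M φ = 0 ↔ φ = 0 := by
  constructor
  · intro h
    apply (equiv adj I n M).injective
    rw [h, equiv_zero adj I n M fun i => homEquiv_zero adj I n i M]
  · rintro rfl
    exact equiv_zero adj I n M fun i => homEquiv_zero adj I n i M

/-- The complex representing cochains out of `T`. -/
noncomputable def cx : CochainComplex A ℤ where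
  X := obj adj I
  d := d adj I
  shape n m h := by
    rw [← equiv_eq_zero_iff adj I m, ← Category.id_comp (d adj I n m), equiv_comp_d,
      δ_shape _ _ (show n + 1 ≠ m from h)]
  d_comp_d' n m p _ _ := by
    rw [← equiv_eq_zero_iff adj I p, equiv_comp_d]
    conv_lhs => rw [← Category.id_comp (d adj I n m), equiv_comp_d]
    rw [δ_δ]

theorem equiv_comp_cx_d (n m : ℤ) {M : A} (φ : M ⟶ (cx adj I).X n) :
    equiv adj I m M (φ ≫ (cx adj I).d n m) = δ n m (equiv adj I n M φ) :=
  equiv_comp_d adj I n m φ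

end PerfCompLib.HomCx
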