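import Groth.Agent.PerfCompLib.LocalNull
import Groth.Agent.PerfCompLib.HomCx
import Groth.Agent.ModSiteLib.TensorSheaf
import Groth.Agent.FiltSectLib.Resol
import Mathlib.Algebra.Homology.HomotopyCategory.HomComplexCohomology

/-!
# Vanishing of maps from perfect objects under a bound on cohomological dimension
-/

set_option autoImplicit false
set_option linter.style.haveILetI false

universe u

open CategoryTheory CategoryTheory.Limits AlgebraicGeometry TopologicalSpace Opposite CochainComplex.HomComplex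
open QCohLib (toAbF)

attribute [local instance] HasDerivedCategory.standard

namespace PerfCompLib

variable {X : Scheme.{u}}

/-- `M ↦ M ⊗ F`. -/
noncomputable def tF (F : CochainComplex X.Modules ℤ) : X.Modules ⥤ CochainComplex X.Modules ℤ where
  obj M := (((DCoh.tensorBi (X := X)).obj M).mapHomologicalComplex (ComplexShape.up ℤ)).obj F
  map f := (NatTrans.mapHomologicalComplex ((DCoh.tensorBi (X := X)).map f) _).app F
  map_id M := by
    ext i : 1
    exact congrArg (fun τ => NatTrans.app τ (F.X i)) ((DCoh.tensorBi (X := X)).map_id M)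
  map_comp f g := by
    ext i : 1
    exact congrArg (fun τ => NatTrans.app τ (F.X i)) ((DCoh.tensorBi (X := X)).map_comp f g)

instance additive_tF (F : CochainComplex X.Modules ℤ) : (tF F).Additive where
  map_add {_ _ f g} := by
    ext i : 1
    exact congrArg (fun τ => NatTrans.app τ (F.X i)) ((DCoh.tensorBi (X := X)).map_add)

theorem isLeftAdjoint_tF (F : CochainComplex X.Modules ℤ) (i : ℤ) :
    (tF F ⋙ HomologicalComplex.eval X.Modules (ComplexShape.up ℤ) i).IsLeftAdjoint := by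
  haveI h : ((DCoh.tensorBi (X := X)).flip.obj (F.X i)).IsLeftAdjoint :=
    ModSiteLib.hasSheafHom X.sheaf (F.X i)
  exact @Functor.isLeftAdjoint_of_iso _ _ _ _ ((DCoh.tensorBi (X := X)).flip.obj (F.X i)) _
    (NatIso.ofComponents (fun _ => Iso.refl _) (fun f => by exact (Category.comp_id _).trans (Category.id_comp _).symm)) h

/-- The adjunctions. -/
noncomputable def adjF (F : CochainComplex X.Modules ℤ) (i : ℤ) :
    tF F ⋙ HomologicalComplex.eval X.Modules (ComplexShape.up ℤ) i ⊣
      @Functor.rightAdjoint _ _ _ _ _ (isLeftAdjoint_tF F i) :=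
  @Adjunction.ofIsLeftAdjoint _ _ _ _ _ (isLeftAdjoint_tF F i)

/-- The complex of sheaf homs from `F` into `I`. -/
noncomputable abbrev hom (F I : CochainComplex X.Modules ℤ) : CochainComplex X.Modules ℤ :=
  HomCx.cx (adjF F) I

theorem qcFlasqueM_hom (F I : CochainComplex X.Modules ℤ) (hI : ∀ i, Injective (I.X i)) (n : ℤ) :
    FiltSectLib.QcFlasqueM ((hom F I).X n) := fun V U h _ _ _ s => by
  let e := HomCx.equiv (adjF F) I n
  let r : KFlatLib.freeU (X := X) V ⟶ KFlatLib.freeU U := KFlatLib.resU h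
  haveI : ∀ p, Mono (((tF F).map r).f p) := fun p => by
    haveI : Mono (((DCoh.tensorBi (X := X)).map r).app (F.X p) ≫ (theta U).app (F.X p)) := by
      rw [theta_res]
      infer_instance
    exact mono_of_mono (((DCoh.tensorBi (X := X)).map r).app (F.X p)) ((theta U).app (F.X p))
  let z := e (KFlatLib.freeU V) (KFlatLib.secMap s)
  let z' : Cochain ((tF F).obj (KFlatLib.freeU U)) I n := Cochain.mk fun p q hpq =>
    @Injective.factorThru _ _ _ _ _ (hI q) (z.v p q hpq) (((tF F).map r).f p) inferInstance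
  let φ := (e (KFlatLib.freeU U)).symm z'
  have hφ : r ≫ φ = KFlatLib.secMap s := by
    apply (e (KFlatLib.freeU V)).injective
    rw [HomCx.equiv_precomp, Equiv.apply_symm_apply]
    refine Cochain.ext _ _ fun p q hpq => ?_
    simp [z', z, e]
    rfl
  refine ⟨KFlatLib.freeUEquiv U _ φ, ?_⟩
  rw [KFlatLib.resU_comp] at hφ
  exact (KFlatLib.freeUEquiv V _).symm.injective hφ

variable {F I : CochainComplex X.Modules ℤ} {a c : ℤ}

theorem exactAt_shift {K : CochainComplex X.Modules ℤ} (n i i' : ℤ) (h : n + i = i')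
    (hK : K.ExactAt i') : (K⟦n⟧).ExactAt i :=
  (ShortComplex.exact_iff_of_iso ((CochainComplex.shiftShortComplexFunctorIso X.Modules n i i' h).app K)).2 hK

/-- The sheaf hom complex is exact in nonnegative degrees. -/
theorem exactAt_hom (hmodel : ∀ x : X, ∃ V : X.Opens, x ∈ V ∧ ModelGE a V F) [I.IsStrictlyGE c]
    (hI : ∀ i, Injective (I.X i)) (hexact : ∀ i, a ≤ i → I.ExactAt i) (n : ℤ) (hn : 0 ≤ n) :
    (hom F I).ExactAt n := by
  classical
  let C := hom F I
  let e := HomCx.equiv (adjF F) I n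
  rw [HomologicalComplex.exactAt_iff' C (n - 1) n (n + 1) (by simp) (by simp), ShortComplex.exact_iff_exact_up_to_refinements]
  intro M m hm
  change M ⟶ C.X n at m
  change m ≫ C.d n (n + 1) = 0 at hm
  let σ := Σ W : Opens X.toTopCat, Γ(M, W) × {x : X // x ∈ W}
  have hloc : ∀ k : σ, ∃ (W' : X.Opens) (h : W' ≤ k.1), k.2.2.1 ∈ W' ∧
      ∃ y : KFlatLib.freeU W' ⟶ C.X (n - 1),
        (KFlatLib.resU h ≫ KFlatLib.secMap k.2.1) ≫ m = y ≫ C.d (n - 1) n := fun k => by
    obtain ⟨W, s, x, hx⟩ := k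
    obtain ⟨V, hxV, hV⟩ := hmodel x
    let ψ : KFlatLib.freeU W ⟶ C.X n := KFlatLib.secMap s ≫ m
    have hψ : δ n (n + 1) (e _ ψ) = 0 := by
      refine (HomCx.equiv_comp_cx_d (adjF F) I n (n + 1) ψ).symm.trans ?_
      refine (HomCx.equiv_eq_zero_iff (adjF F) I (n + 1) _).2 ?_
      exact (Category.assoc _ _ _).trans ((congrArg (_ ≫ ·) hm).trans comp_zero)
    let z : Cocycle ((tF F).obj (KFlatLib.freeU W)) I n := Cocycle.mk (e _ ψ) (n + 1) rfl hψ
    let g : tensCx W F ⟶ I⟦n⟧ := Cocycle.equivHomShift.symm z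
    haveI : CochainComplex.IsStrictlyGE (I⟦n⟧) (c - n) := CochainComplex.isStrictlyGE_shift I c n (c - n) (by omega)
    obtain ⟨W', h, hxW', hzero⟩ := exists_Q_map_restrict_eq_zero (I' := I⟦n⟧) hV g (c - n)
      (fun i => hI (i + n)) (fun i hi => exactAt_shift n i (n + i) rfl (hexact _ (by omega))) x hx hxV
    refine ⟨W', h, hxW', ?_⟩
    let z' : Cocycle ((tF F).obj (KFlatLib.freeU W')) I n := z.precomp ((tF F).map (KFlatLib.resU h))
    have hz' : Cocycle.equivHomShift.symm z' = (tF F).map (KFlatLib.resU h) ≫ g :=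
      Cocycle.equivHomShift_symm_precomp z ((tF F).map (KFlatLib.resU h))
    haveI : ∀ i, Injective (I.X i) := hI
    haveI : I.IsKInjective := CochainComplex.isKInjective_of_injective I c
    haveI : CochainComplex.IsKInjective (I⟦n⟧) :=
      haveI : ∀ i, Injective ((I⟦n⟧).X i) := fun i => hI (i + n)
      CochainComplex.isKInjective_of_injective _ (c - n)
    have hb : z' ∈ coboundaries _ _ n := by
      rw [← CohomologyClass.toHom_mk_eq_zero_iff, CohomologyClass.toHom_mk, hz']
      exact Groth.Agent.DerLib.KInjUse.quotient_eq_zero_of_Q hzero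
    obtain ⟨β, hβ⟩ := (mem_coboundaries_iff z' (n - 1) (by omega)).1 hb
    refine ⟨(HomCx.equiv (adjF F) I (n - 1) _).symm β, (e _).injective ?_⟩
    refine Eq.trans ?_ (((HomCx.equiv_comp_cx_d (adjF F) I (n - 1) n _).trans
      (congrArg (δ (n - 1) n) (Equiv.apply_symm_apply _ _))).trans hβ).symm
    refine (congrArg (e _) (Category.assoc _ _ _)).trans ?_
    exact HomCx.equiv_precomp (adjF F) I n (KFlatLib.resU h) ψ
  choose W' hW' hxW' y hy using hloc
  let π : ∐ (fun k : σ => KFlatLib.freeU (W' k)) ⟶ M :=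
    Sigma.desc fun k => KFlatLib.resU (hW' k) ≫ KFlatLib.secMap k.2.1
  have hπ : Epi π := epi_of_stalks π fun x => by
    rw [ModuleCat.epi_iff_surjective]
    intro w
    obtain ⟨W, hxW, s, rfl⟩ := TopCat.Presheaf.germ_exist M.presheaf w
    let k : σ := ⟨W, s, x, hxW⟩
    refine ⟨((DerSch.stalkFunctor X x).map (Sigma.ι (fun k : σ => KFlatLib.freeU (W' k)) k)).hom
      (KFlatLib.genGerm x (hxW' k)), ?_⟩
    refine (congr($((DerSch.stalkFunctor X x).map_comp (Sigma.ι (fun k : σ => KFlatLib.freeU (W' k)) k) π).hom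
      (KFlatLib.genGerm x (hxW' k)))).symm.trans ?_
    rw [Sigma.ι_desc, KFlatLib.resU_comp, KFlatLib.genGerm_map, KFlatLib.secMap, Equiv.apply_symm_apply,
      KFlatLib.secMap, Equiv.apply_symm_apply]
    exact TopCat.Presheaf.germ_res_apply _ (homOfLE (hW' k)) x (hxW' k) _
  refine ⟨_, π, hπ, Sigma.desc y, Sigma.hom_ext _ _ fun k => ?_⟩
  change Sigma.ι (fun k : σ => KFlatLib.freeU (W' k)) k ≫ π ≫ m =
    Sigma.ι (fun k : σ => KFlatLib.freeU (W' k)) k ≫ Sigma.desc y ≫ C.d (n - 1) n
  rw [Sigma.ι_desc_assoc, Sigma.ι_desc_assoc]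
  exact hy k

section Dim

open CategoryTheory.Abelian QCohLib

variable [CompactSpace X] [QuasiSeparatedSpace X]

theorem subsingleton_HU_top (M : X.Modules) (hM : FiltSectLib.QcFlasqueM M) (q : ℕ) :
    Subsingleton (HU ((toAbF X).obj M) (q + 1) (⊤ : Opens X.toTopCat)) :=
  FiltSectLib.subsingleton_of_qcFlasque (FiltSectLib.isBasis_compact X) q hM
    (by rw [Opens.coe_top]; exact isCompact_univ (X := X))
    (by rw [Opens.coe_top]; exact @IsQuasiSeparated.of_quasiSeparatedSpace _ _ ‹QuasiSeparatedSpace X› _)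

variable {C : CochainComplex X.Modules ℤ} {d : ℕ}

/-- Dimension shifting along an exact complex of acyclic modules. -/
theorem subsingleton_HU_cycles (hC : ∀ n, FiltSectLib.QcFlasqueM (C.X n))
    (hd : ∀ (G : X.Modules) (p : ℕ), d < p → Subsingleton (HU ((toAbF X).obj G) p (⊤ : Opens X.toTopCat))) :
    ∀ (j : ℕ) (q : ℕ) (m : ℤ), d < q + 1 + j → (∀ i, m - j < i → i ≤ m → C.ExactAt i) →
      Subsingleton (HU ((toAbF X).obj (C.cycles m)) (q + 1) (⊤ : Opens X.toTopCat))
  | 0, q, m, hq, _ => hd _ _ (by omega)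
  | j + 1, q, m, hq, hex => by
    have ih := subsingleton_HU_cycles hC hd j (q + 1) (m - 1) (by omega) fun i h₁ h₂ => hex i (by omega) (by omega)
    have hw : C.iCycles (m - 1) ≫ C.toCycles (m - 1) m = 0 := by
      rw [← cancel_mono (C.iCycles m)]
      simp
    let S := ShortComplex.mk (C.iCycles (m - 1)) (C.toCycles (m - 1) m) hw
    have hS : S.ShortExact :=
      { exact := by
          refine ShortComplex.exact_of_f_is_kernel _ ?_
          refine isKernelOfComp (C.iCycles m) _ (C.cyclesIsKernel (m - 1) m (by simp)) hw ?_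
          exact C.toCycles_i _ _
        mono_f := inferInstanceAs (Mono (C.iCycles _))
        epi_g := epi_toCycles (by omega) (hex m (by omega) le_rfl) }
    refine subsingleton_of_forall_eq 0 fun x => ?_
    have hz : ∀ w : HU ((toAbF X).obj (C.cycles (m - 1))) (q + 1 + 1) (⊤ : Opens X.toTopCat), w = 0 :=
      fun w => Subsingleton.elim _ _
    obtain ⟨w, hw'⟩ := Ext.covariant_sequence_exact₃ (zsh (⊤ : Opens X.toTopCat))
      (toAbF_shortExact hS) x (rfl : q + 1 + 1 = q + 1 + 1) (hz _)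
    have := subsingleton_HU_top (C.X (m - 1)) (hC _) q
    rw [← hw', show w = 0 from @Subsingleton.elim _ this w 0]
    simp
    rfl

/-- Global sections are exact far enough from the start of exactness. -/
theorem exists_lift_top (hC : ∀ n, FiltSectLib.QcFlasqueM (C.X n))
    (hd : ∀ (G : X.Modules) (p : ℕ), d < p → Subsingleton (HU ((toAbF X).obj G) p (⊤ : Opens X.toTopCat)))
    (hex : ∀ i, 0 ≤ i → C.ExactAt i) (φ : KFlatLib.freeU (X := X) ⊤ ⟶ C.X (d + 1))
    (hφ : φ ≫ C.d (d + 1) (d + 2) = 0) :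
    ∃ ψ : KFlatLib.freeU (X := X) ⊤ ⟶ C.X d, ψ ≫ C.d d (d + 1) = φ := by
  have hw : C.iCycles d ≫ C.toCycles d (d + 1) = 0 := by
    rw [← cancel_mono (C.iCycles (d + 1))]
    simp
  let S := ShortComplex.mk (C.iCycles d) (C.toCycles d (d + 1)) hw
  have hS : S.ShortExact :=
    { exact := by
        refine ShortComplex.exact_of_f_is_kernel _ ?_
        refine isKernelOfComp (C.iCycles (d + 1)) _ (C.cyclesIsKernel (d : ℤ) (d + 1) (by simp)) hw ?_
        exact C.toCycles_i _ _
      mono_f := inferInstanceAs (Mono (C.iCycles _))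
      epi_g := epi_toCycles (by omega) (hex _ (by omega)) }
  haveI : Subsingleton (HU (S.map (toAbF X)).X₁ 1 (⊤ : Opens X.toTopCat)) :=
    subsingleton_HU_cycles hC hd d 0 d (by omega) fun i h₁ _ => hex i (by omega)
  obtain ⟨t, ht⟩ := exists_lift_of_subsingleton (toAbF_shortExact hS)
    (KFlatLib.freeUEquiv ⊤ _ (C.liftCycles φ (d + 2) (by simp; omega) hφ))
  refine ⟨KFlatLib.secMap t, ?_⟩
  have h : KFlatLib.secMap t ≫ S.g = C.liftCycles φ (d + 2) (by simp; omega) hφ := by
    apply (KFlatLib.freeUEquiv ⊤ _).injective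
    rw [KFlatLib.freeUEquiv_comp, KFlatLib.secMap, Equiv.apply_symm_apply]
    exact ht
  rw [← C.toCycles_i (d : ℤ) (d + 1), ← Category.assoc]
  exact (congrArg (· ≫ _) h).trans (C.liftCycles_i _ _ _ _)

/-- Maps from `F` into shifted injective complexes exact above the model vanish. -/
theorem Q_map_eq_zero
    (hd : ∀ (G : X.Modules) (p : ℕ), d < p → Subsingleton (HU ((toAbF X).obj G) p (⊤ : Opens X.toTopCat)))
    (hmodel : ∀ x : X, ∃ V : X.Opens, x ∈ V ∧ ModelGE a V F) [I.IsStrictlyGE c]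
    (hI : ∀ i, Injective (I.X i)) (hexact : ∀ i, a ≤ i → I.ExactAt i)
    (g : F ⟶ I⟦((d : ℤ) + 1)⟧) : DerivedCategory.Q.map g = 0 := by
  let T := tensCx (⊤ : X.Opens) F
  let θ : T ⟶ F :=
    { f := fun i => (theta (⊤ : X.Opens)).app (F.X i)
      comm' := fun i j _ => ((theta (⊤ : X.Opens)).naturality (F.d i j)).symm }
  haveI : ∀ i, IsIso (θ.f i) := fun i => isIso_theta_top (F.X i)
  haveI : IsIso θ := HomologicalComplex.Hom.isIso_of_components _
  let z := Cocycle.equivHomShift (θ ≫ g)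
  let e := HomCx.equiv (adjF F) I ((d : ℤ) + 1) (KFlatLib.freeU (X := X) ⊤)
  let φ := e.symm z.1
  have hφ : φ ≫ (hom F I).d (d + 1) (d + 2) = 0 := by
    refine (HomCx.equiv_eq_zero_iff (adjF F) I ((d : ℤ) + 2) _).1 ?_
    refine (HomCx.equiv_comp_cx_d (adjF F) I ((d : ℤ) + 1) ((d : ℤ) + 2) φ).trans ?_
    exact (congrArg (δ ((d : ℤ) + 1) ((d : ℤ) + 2)) (Equiv.apply_symm_apply e _)).trans (z.δ_eq_zero _)
  obtain ⟨ψ, hψ⟩ := exists_lift_top (C := hom F I) (qcFlasqueM_hom F I hI) hd
    (fun i hi => exactAt_hom (c := c) hmodel hI hexact i hi) φ hφ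
  have hb : z ∈ coboundaries T I ((d : ℤ) + 1) := by
    rw [mem_coboundaries_iff z (d : ℤ) rfl]
    refine ⟨HomCx.equiv (adjF F) I (d : ℤ) _ ψ, ?_⟩
    exact ((HomCx.equiv_comp_cx_d (adjF F) I (d : ℤ) ((d : ℤ) + 1) ψ).symm.trans
      (congrArg (HomCx.equiv (adjF F) I ((d : ℤ) + 1) _) hψ)).trans (Equiv.apply_symm_apply _ _)
  have h0 : (HomotopyCategory.quotient X.Modules (ComplexShape.up ℤ)).map (θ ≫ g) = 0 := by
    have h := (CohomologyClass.toHom_mk_eq_zero_iff z).2 hb
    rw [CohomologyClass.toHom_mk] at h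
    simpa [z] using h
  rw [← cancel_epi (DerivedCategory.Q.map θ), comp_zero, ← Functor.map_comp]
  rw [← cancel_mono ((DerivedCategory.quotientCompQhIso X.Modules).inv.app _), zero_comp]
  refine ((DerivedCategory.quotientCompQhIso X.Modules).inv.naturality (θ ≫ g)).trans ?_
  rw [Functor.comp_map, h0, Functor.map_zero, comp_zero]

end Dim

end PerfCompLib
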