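import Groth.Agent.PerfCompLib.Base
import Groth.Agent.PerfCompLib.Bounded

/-!
# Objects compact against uniformly bounded below families
-/

set_option autoImplicit false
set_option linter.style.haveILetI false

universe u

open CategoryTheory CategoryTheory.Limits CategoryTheory.Pretriangulated AlgebraicGeometry TopologicalSpace

attribute [local instance] HasDerivedCategory.standard

namespace PerfCompLib

variable {X : Scheme.{u}}

/-- Maps from `K` into uniformly bounded below coproducts factor through finite subfamilies. -/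
def Good (K : DCoh.D X) : Prop :=
  ∀ (I : Type u) (M : I → DCoh.D X) [HasCoproduct fun i : ULift.{u + 1} I => M i.down] (a : ℤ),
    (∀ i, (M i).IsGE a) → FinFac (fun i : ULift.{u + 1} I => M i.down) K

theorem Good.of_iso {K L : DCoh.D X} (e : K ≅ L) (h : Good K) : Good L :=
  fun I M _ a hM => FinFac.of_iso e (h I M a hM)

theorem Good.of_isZero {K : DCoh.D X} (h : IsZero K) : Good K :=
  fun _ _ _ _ _ => FinFac.of_isZero h

theorem Good.ext₂ (T : Triangle (DCoh.D X)) (hT : T ∈ distTriang _) (h₁ : Good T.obj₁)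
    (h₃ : Good T.obj₃) : Good T.obj₂ :=
  fun I M _ a hM => FinFac.ext₂ T hT (h₁ I M a hM) (h₃ I M a hM)

theorem Good.shift {K : DCoh.D X} (h : Good K) (m : ℤ) : Good (K⟦m⟧) := by
  intro I M hc a hM
  let F := shiftFunctor (DCoh.D X) (-m)
  haveI : HasColimit (Discrete.functor (fun i : ULift.{u + 1} I => M i.down) ⋙ F) :=
    ⟨⟨⟨_, isColimitOfPreserves F (colimit.isColimit _)⟩⟩⟩
  haveI : HasCoproduct fun i : ULift.{u + 1} I => (M i.down)⟦-m⟧ :=
    hasColimit_of_iso (G := Discrete.functor fun i : ULift.{u + 1} I => (M i.down)⟦-m⟧)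
      (F := Discrete.functor (fun i : ULift.{u + 1} I => M i.down) ⋙ F)
      (Discrete.natIso fun i => Iso.refl _)
  refine FinFac.shift (n := -m) (by omega) ?_
  exact h I (fun i => (M i)⟦-m⟧) (a + m) fun i =>
    have := hM i
    DerivedCategory.TStructure.t.isGE_shift (M i) a (-m) (a + m) (by omega)

theorem Good.ext₃ (T : Triangle (DCoh.D X)) (hT : T ∈ distTriang _) (h₁ : Good T.obj₁)
    (h₂ : Good T.obj₂) : Good T.obj₃ :=
  Good.ext₂ T.rotate (rot_of_distTriang _ hT) h₂ (h₁.shift 1)

theorem Good.biprod [HasBinaryBiproducts (DCoh.D X)] {K L : DCoh.D X} (hK : Good K) (hL : Good L) :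
    Good (K ⊞ L) := fun I M _ a hM => FinFac.biprod (hK I M a hM) (hL I M a hM)

/-- Finite sums. -/
theorem good_single_sigma {n : ℕ} (P : Fin n → X.Modules) (p : ℤ)
    (h : ∀ k, Good (DerivedCategory.Q.obj ((CochainComplex.singleFunctor X.Modules p).obj (P k)))) :
    Good (DerivedCategory.Q.obj ((CochainComplex.singleFunctor X.Modules p).obj (∐ P))) := by
  classical
  intro I M _ a hM f
  haveI : HasFiniteBiproducts X.Modules := Abelian.hasFiniteBiproducts
  let G := CochainComplex.singleFunctor X.Modules p ⋙ DerivedCategory.Q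
  let e := biproduct.isoCoproduct P
  haveI : G.Additive := inferInstance
  choose S hS using fun k => h k I M a hM (G.map (biproduct.ι P k ≫ e.hom) ≫ f)
  refine ⟨Finset.univ.sup S, ?_⟩
  have hk : ∀ k, G.map (biproduct.ι P k ≫ e.hom) ≫ f ≫
      cut (fun i : ULift.{u + 1} I => M i.down) (Finset.univ.sup S) =
        G.map (biproduct.ι P k ≫ e.hom) ≫ f := fun k => by
    rw [← Category.assoc]
    exact comp_cut_of_subset (hS k) (Finset.le_sup (Finset.mem_univ k))
  haveI : IsIso (G.map e.hom) := inferInstance
  apply (cancel_epi (G.map e.hom)).1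
  have htot : 𝟙 (G.obj (⨁ P)) = ∑ k, G.map (biproduct.π P k) ≫ G.map (biproduct.ι P k) := by
    simp only [← G.map_comp]
    rw [← G.map_sum, biproduct.total, G.map_id]
  rw [← Category.id_comp (G.map e.hom ≫ f ≫ _), ← Category.id_comp (G.map e.hom ≫ f), htot,
    Preadditive.sum_comp, Preadditive.sum_comp]
  refine Finset.sum_congr rfl fun k _ => ?_
  rw [Category.assoc, Category.assoc, ← G.map_comp_assoc (biproduct.ι P k),
    ← G.map_comp_assoc (biproduct.ι P k), hk k]

/-- Shifted free modules on quasi-compact opens. -/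
theorem good_single_freeU {U : Opens X.toTopCat} (hU : IsCompact (U : Set X.toTopCat))
    (hU' : IsQuasiSeparated (U : Set X.toTopCat)) (p : ℤ) :
    Good (DerivedCategory.Q.obj ((CochainComplex.singleFunctor X.Modules p).obj (KFlatLib.freeU U))) := by
  have h0 : Good (DerivedCategory.Q.obj
      ((CochainComplex.singleFunctor X.Modules 0).obj (KFlatLib.freeU U))) :=
    fun I M _ a hM => finFac_freeU hU hU' M a hM
  exact Good.of_iso (((DerivedCategory.Q.commShiftIso (-p)).app _).symm ≪≫
    DerivedCategory.Q.mapIso (((CochainComplex.singleFunctors X.Modules).shiftIso (-p) p 0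
      (by omega)).app (KFlatLib.freeU U))) (h0.shift (-p))

end PerfCompLib
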