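import Groth.Agent.PerfCompLib.Theta
import Groth.Agent.PerfCompLib.Main
import Groth.Agent.PerfLib.NullLocal
import Groth.Agent.DerLib.KInjUse
import Mathlib.Algebra.Homology.DerivedCategory.KInjective

/-!
# Maps out of `freeU W ⊗ K` into injective resolutions are locally zero
-/

set_option autoImplicit false
set_option linter.style.haveILetI false

universe u

open CategoryTheory CategoryTheory.Limits AlgebraicGeometry TopologicalSpace
open Groth.Agent.PerfLib (resC resD resDQIso resCComp resCCongr homotopyComp homotopyCongr Q_map_eq_of_homotopy)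
open Groth.Agent.DerLib

attribute [local instance] HasDerivedCategory.standard

namespace PerfCompLib

variable {X : Scheme.{u}}

/-- A strictly perfect model vanishing below `a`. -/
def ModelGE (a : ℤ) (W : X.Opens) (F : CochainComplex X.Modules ℤ) : Prop :=
  ∃ E : CochainComplex W.toScheme.Modules ℤ, DCoh.IsStrictlyPerfect E ∧
    (∀ i, i < a → IsZero (E.X i)) ∧
    Nonempty (DerivedCategory.Q.obj ((DCoh.restrictCx W).obj F) ≅ DerivedCategory.Q.obj E)

theorem ModelGE.mono {a : ℤ} {W V : X.Opens} (h : W ≤ V) {F : CochainComplex X.Modules ℤ}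
    (hV : ModelGE a V F) : ModelGE a W F := by
  obtain ⟨E, hE, hz, ⟨e⟩⟩ := hV
  exact ⟨(resC (X.homOfLE h)).obj E, Groth.Agent.PerfLib.isStrictlyPerfect_res _ hE,
    fun i hi => (Scheme.Modules.restrictFunctor _).map_isZero (hz i hi), nonempty_restrict_iso h e⟩

theorem ModelGE.of_le {a a' : ℤ} (h : a' ≤ a) {W : X.Opens} {F : CochainComplex X.Modules ℤ}
    (hW : ModelGE a W F) : ModelGE a' W F := by
  obtain ⟨E, hE, hz, he⟩ := hW
  exact ⟨E, hE, fun i hi => hz i (by omega), he⟩

theorem injective_restrict {U : X.Opens} (M : X.Modules) [Injective M] :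
    Injective ((Scheme.Modules.restrictFunctor U.ι).obj M) := by
  haveI : (CxOX.extZero U.ι).PreservesMonomorphisms := inferInstance
  exact Injective.injective_of_adjoint (CxOX.extZeroAdj U.ι) M

theorem isIso_extι_tensU (W : X.Opens) (N : X.Modules) :
    IsIso ((extι W).app ((tensU W).obj N)) := FiltSectLib.isIso_of_stalks _ fun x => by
  by_cases hx : x ∈ W
  · exact isIso_stalk_extι hx _
  · exact isIso_of_isTerminal (isZero_stalk_extU hx _).isTerminal (isZero_stalk_tensU hx _).isTerminal _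

/-- A map out of a complex extended by zero from `W` vanishes in `D(X)` if its restriction does. -/
theorem Q_map_eq_zero_of_restrict (W : X.Opens) {P I' : CochainComplex X.Modules ℤ}
    (hP : ∀ i, IsIso ((extι W).app (P.X i))) (φ : P ⟶ I')
    (h : DerivedCategory.Q.map ((resC W.ι).map φ) = 0) : DerivedCategory.Q.map φ = 0 := by
  let J := CxOX.extZero W.ι
  let JC := J.mapHomologicalComplex (ComplexShape.up ℤ)
  let ε : ∀ L : CochainComplex X.Modules ℤ, JC.obj ((resC W.ι).obj L) ⟶ L := fun L =>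
    { f := fun i => (extι W).app (L.X i)
      comm' := fun i j _ => ((extι W).naturality (L.d i j)).symm }
  haveI : ∀ i, IsIso ((ε P).f i) := hP
  haveI : IsIso (ε P) := HomologicalComplex.Hom.isIso_of_components _
  have hn : ε P ≫ φ = JC.map ((resC W.ι).map φ) ≫ ε I' := by
    ext i : 1
    exact ((extι W).naturality (φ.f i)).symm
  have hz : DerivedCategory.Q.map (JC.map ((resC W.ι).map φ)) = 0 := by
    rw [← cancel_epi (J.mapDerivedCategoryFactors.app ((resC W.ι).obj P)).hom, comp_zero]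
    refine (J.mapDerivedCategoryFactors.hom.naturality ((resC W.ι).map φ)).symm.trans ?_
    refine (congrArg (· ≫ _) ((congrArg J.mapDerivedCategory.map h).trans (Functor.map_zero _ _ _))).trans ?_
    exact zero_comp
  rw [← cancel_epi (DerivedCategory.Q.map (ε P)), comp_zero, ← Functor.map_comp, hn, Functor.map_comp,
    hz, zero_comp]

/-- `freeU W ⊗ F` as a complex. -/
noncomputable abbrev tensCx (W : X.Opens) (F : CochainComplex X.Modules ℤ) :
    CochainComplex X.Modules ℤ :=
  ((tensU W).mapHomologicalComplex (ComplexShape.up ℤ)).obj F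

theorem exists_Q_map_restrict_eq_zero {a : ℤ} {W V : X.Opens} {F I' : CochainComplex X.Modules ℤ}
    (hV : ModelGE a V F) (g : tensCx W F ⟶ I') (c : ℤ) [I'.IsStrictlyGE c]
    (hinj : ∀ i, Injective (I'.X i)) (hexact : ∀ i, a ≤ i → I'.ExactAt i)
    (x : X) (hxW : x ∈ W) (hxV : x ∈ V) :
    ∃ (W' : X.Opens) (h : W' ≤ W), x ∈ W' ∧
      DerivedCategory.Q.map ((NatTrans.mapHomologicalComplex
        ((DCoh.tensorBi (X := X)).map (KFlatLib.resU h)) _).app F ≫ g) = 0 := by
  let W₁ : X.Opens := W ⊓ V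
  obtain ⟨E, hE, hEa, ⟨e⟩⟩ := hV.mono (inf_le_right : W₁ ≤ V)
  let I₁ := (resC W₁.ι).obj I'
  haveI : ∀ i, Injective (I₁.X i) := fun i => by
    haveI := hinj i
    exact injective_restrict (I'.X i)
  haveI : I₁.IsStrictlyGE c := (CochainComplex.isStrictlyGE_iff _ _).2 fun i hi =>
    (Scheme.Modules.restrictFunctor W₁.ι).map_isZero (CochainComplex.isZero_of_isStrictlyGE I' c i hi)
  haveI : I₁.IsKInjective := CochainComplex.isKInjective_of_injective I₁ c
  haveI hθ : ∀ i, IsIso (((NatTrans.mapHomologicalComplex (Functor.whiskerRight (theta W)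
      (Scheme.Modules.restrictFunctor W₁.ι)) (ComplexShape.up ℤ)).app F).f i) := fun i =>
    isIso_restrict_of_stalks W₁.ι ((theta W).app (F.X i)) fun v => isIso_stalk_theta v.2.1 _
  let θ₁ : (resC W₁.ι).obj (tensCx W F) ⟶ (DCoh.restrictCx W₁).obj F :=
    { f := fun i => (Scheme.Modules.restrictFunctor W₁.ι).map ((theta W).app (F.X i))
      comm' := fun i j _ => (((Scheme.Modules.restrictFunctor W₁.ι).map_comp _ _).symm.trans
        ((congrArg _ ((theta W).naturality (F.d i j))).trans
          ((Scheme.Modules.restrictFunctor W₁.ι).map_comp _ _))).symm }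
  haveI : ∀ i, IsIso (θ₁.f i) := fun i =>
    isIso_restrict_of_stalks W₁.ι ((theta W).app (F.X i)) fun v => isIso_stalk_theta v.2.1 _
  haveI : IsIso θ₁ := HomologicalComplex.Hom.isIso_of_components _
  let β : DerivedCategory.Q.obj ((resC W₁.ι).obj (tensCx W F)) ≅ DerivedCategory.Q.obj E :=
    DerivedCategory.Q.mapIso (asIso θ₁) ≪≫ e
  obtain ⟨α, hα⟩ := KInjUse.Q_map_surjective E I₁
    (β.inv ≫ DerivedCategory.Q.map ((resC W₁.ι).map g))
  obtain ⟨V', j, _, v, hv, ⟨H⟩⟩ := Groth.Agent.PerfLib.exists_null_local α hE a hEa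
    (fun i hi => Groth.Agent.PerfLib.exactAt_res W₁.ι (hexact i hi)) ⟨x, hxW, hxV⟩
  let U : W₁.toScheme.Opens := j.opensRange
  obtain ⟨HU⟩ := Groth.Agent.PerfLib.exists_homotopy_opens α 0 j
    (H.trans (Homotopy.ofEq (Functor.map_zero _ _ _).symm))
  let W₂ : X.Opens := W₁.ι ''ᵁ U
  have hW₂ : W₂ ≤ W₁ := W₁.ι_image_le _
  have hx₂ : x ∈ W₂ := ⟨⟨x, hxW, hxV⟩, ⟨v, hv⟩, rfl⟩
  let g' := X.homOfLE hW₂
  have hrange : Set.range g'.base ⊆ Set.range U.ι.base := by
    rintro _ ⟨w, rfl⟩
    rw [Scheme.Opens.range_ι]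
    obtain ⟨v', hv', hv''⟩ := w.2
    have : g'.base w = v' := Subtype.ext ((congr($(X.homOfLE_ι hW₂).base w)).trans hv''.symm)
    rw [this]
    exact hv'
  let gi := IsOpenImmersion.lift U.ι g' hrange
  have hgi : gi ≫ U.ι = g' := IsOpenImmersion.lift_fac _ _ _
  have HW : Homotopy ((resC g').map α) ((resC g').map 0) :=
    homotopyCongr hgi (homotopyComp gi U.ι ((Groth.Agent.PerfLib.res gi).mapHomotopy HU))
  have hαz : (resD g').map (DerivedCategory.Q.map α) = 0 := by
    rw [← cancel_mono (resDQIso g' I₁).hom, Groth.Agent.PerfLib.resDQIso_naturality, zero_comp,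
      Q_map_eq_of_homotopy HW, Functor.map_zero, Functor.map_zero, comp_zero]
  have hg₁ : (resD g').map (DerivedCategory.Q.map ((resC W₁.ι).map g)) = 0 := by
    rw [← Iso.hom_inv_id_assoc β (DerivedCategory.Q.map ((resC W₁.ι).map g)), ← hα, Functor.map_comp,
      hαz, comp_zero]
  have hg₂ : DerivedCategory.Q.map ((resC W₂.ι).map g) = 0 := by
    have h1 : DerivedCategory.Q.map ((resC g').map ((resC W₁.ι).map g)) = 0 := by
      rw [← cancel_epi (resDQIso g' _).hom, ← Groth.Agent.PerfLib.resDQIso_naturality, hg₁, zero_comp,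
        comp_zero]
    let ν := resCCongr (X.homOfLE_ι hW₂).symm ≪≫ resCComp g' W₁.ι
    have h2 : (resC W₂.ι).map g = ν.hom.app _ ≫ (resC g').map ((resC W₁.ι).map g) ≫ ν.inv.app _ := by
      exact ((ν.hom.naturality_assoc g (ν.inv.app _)).symm.trans
        ((congrArg (_ ≫ ·) (ν.hom_inv_id_app _)).trans (Category.comp_id _))).symm
    rw [h2, Functor.map_comp, Functor.map_comp, h1, zero_comp, comp_zero]
  refine ⟨W₂, hW₂.trans inf_le_left, hx₂, Q_map_eq_zero_of_restrict W₂ (fun i => isIso_extι_tensU W₂ (F.X i)) _ ?_⟩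
  rw [Functor.map_comp, Functor.map_comp, hg₂, comp_zero]

end PerfCompLib
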