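import Groth.Agent.PerfCompLib.Main
import Groth.Agent.DerCompLib.Restr

/-!
# The Mayer–Vietoris triangle for extensions by zero
-/

set_option autoImplicit false
set_option linter.style.haveILetI false

universe u

open CategoryTheory CategoryTheory.Limits CategoryTheory.Pretriangulated AlgebraicGeometry

attribute [local instance] HasDerivedCategory.standard

namespace PerfCompLib

variable {X : Scheme.{u}}

/-- `Q(j_! j^* F)` as a derived functor applied to `Q F`. -/
theorem nonempty_extU_iso (W : X.Opens) [PreservesFiniteLimits (CxOX.extZero W.ι)]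
    (F : CochainComplex X.Modules ℤ) :
    Nonempty (DerivedCategory.Q.obj (((extU W).mapHomologicalComplex (ComplexShape.up ℤ)).obj F) ≅
      (CxOX.extZeroD W.ι).obj ((DCoh.restrictD W.ι).obj (DerivedCategory.Q.obj F))) := by
  let J := CxOX.extZero W.ι
  let c : ((extU W).mapHomologicalComplex (ComplexShape.up ℤ)).obj F ≅
      (J.mapHomologicalComplex (ComplexShape.up ℤ)).obj ((DCoh.restrictCx W).obj F) :=
    HomologicalComplex.Hom.isoOfComponents (fun i => Iso.refl _)
      (fun i j _ => (Category.id_comp _).trans (Category.comp_id _).symm)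
  exact ⟨DerivedCategory.Q.mapIso c ≪≫ (J.mapDerivedCategoryFactors.app _).symm ≪≫
    J.mapDerivedCategory.mapIso ((Scheme.Modules.restrictFunctor W.ι).mapDerivedCategoryFactors.app F).symm⟩

theorem isIso_extι_top (F : CochainComplex X.Modules ℤ) :
    IsIso ((NatTrans.mapHomologicalComplex (extι (⊤ : X.Opens)) (ComplexShape.up ℤ)).app F) := by
  haveI : ∀ i, IsIso (((NatTrans.mapHomologicalComplex (extι (⊤ : X.Opens))
      (ComplexShape.up ℤ)).app F).f i) := fun i =>
    FiltSectLib.isIso_of_stalks _ fun x =>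
      isIso_stalk_extι (U := (⊤ : X.Opens)) (TopologicalSpace.Opens.mem_top x) (F.X i)
  exact HomologicalComplex.Hom.isIso_of_components _

theorem exists_mv_triangle (U V : X.Opens) (hUV : U ⊔ V = ⊤)
    [PreservesFiniteLimits (CxOX.extZero U.ι)] [PreservesFiniteLimits (CxOX.extZero V.ι)]
    [PreservesFiniteLimits (CxOX.extZero (U ⊓ V).ι)] (E : DCoh.D X) :
    ∃ (a : (CxOX.extZeroD (U ⊓ V).ι).obj ((DCoh.restrictD (U ⊓ V).ι).obj E) ⟶
        ((CxOX.extZeroD U.ι).obj ((DCoh.restrictD U.ι).obj E) ⊞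
          (CxOX.extZeroD V.ι).obj ((DCoh.restrictD V.ι).obj E)))
      (b : ((CxOX.extZeroD U.ι).obj ((DCoh.restrictD U.ι).obj E) ⊞
          (CxOX.extZeroD V.ι).obj ((DCoh.restrictD V.ι).obj E)) ⟶ E)
      (c : E ⟶ ((CxOX.extZeroD (U ⊓ V).ι).obj ((DCoh.restrictD (U ⊓ V).ι).obj E))⟦(1 : ℤ)⟧),
      Triangle.mk a b c ∈ distinguishedTriangles := by
  haveI : PreservesFiniteBiproducts (DerivedCategory.Q (C := X.Modules)) :=
    Functor.preservesFiniteBiproductsOfAdditive _
  haveI : PreservesBinaryBiproducts (DerivedCategory.Q (C := X.Modules)) :=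
    preservesBinaryBiproducts_of_preservesBiproducts _
  let F := DerivedCategory.Q.objPreimage E
  let e := DerivedCategory.Q.objObjPreimageIso E
  have hT := DerivedCategory.triangleOfSES_distinguished (shortExact_mvSeq U V F)
  obtain ⟨e₀⟩ := nonempty_extU_iso (U ⊓ V) F
  obtain ⟨e₁⟩ := nonempty_extU_iso U F
  obtain ⟨e₂⟩ := nonempty_extU_iso V F
  let i₁ := e₀ ≪≫ (CxOX.extZeroD (U ⊓ V).ι).mapIso ((DCoh.restrictD (U ⊓ V).ι).mapIso e)
  let i₂ := DerivedCategory.Q.mapBiprod
      (((extU U).mapHomologicalComplex (ComplexShape.up ℤ)).obj F)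
      (((extU V).mapHomologicalComplex (ComplexShape.up ℤ)).obj F) ≪≫
    biprod.mapIso (e₁ ≪≫ (CxOX.extZeroD U.ι).mapIso ((DCoh.restrictD U.ι).mapIso e))
      (e₂ ≪≫ (CxOX.extZeroD V.ι).mapIso ((DCoh.restrictD V.ι).mapIso e))
  have hε := isIso_extι_top F
  let i₃ : DerivedCategory.Q.obj (mvSeq U V F).X₃ ≅ E :=
    DerivedCategory.Q.mapIso (eqToIso (by rw [← hUV]; rfl) ≪≫
      @asIso _ _ _ _ ((NatTrans.mapHomologicalComplex (extι (⊤ : X.Opens)) _).app F) hε ≪≫
      HomologicalComplex.Hom.isoOfComponents (fun i => Iso.refl _)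
        (fun i j _ => (Category.id_comp _).trans (Category.comp_id _).symm)) ≪≫ e
  let T := DerivedCategory.triangleOfSES (shortExact_mvSeq U V F)
  refine ⟨i₁.inv ≫ T.mor₁ ≫ i₂.hom, i₂.inv ≫ T.mor₂ ≫ i₃.hom,
    i₃.inv ≫ T.mor₃ ≫ i₁.hom⟦(1 : ℤ)⟧', isomorphic_distinguished T hT _
      (Triangle.isoMk _ _ i₁.symm i₂.symm i₃.symm ?_ ?_ ?_)⟩
  · exact (Category.assoc _ _ _).trans (congrArg (_ ≫ ·) ((Category.assoc _ _ _).trans
      ((congrArg (_ ≫ ·) i₂.hom_inv_id).trans (Category.comp_id _))))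
  · exact (Category.assoc _ _ _).trans (congrArg (_ ≫ ·) ((Category.assoc _ _ _).trans
      ((congrArg (_ ≫ ·) i₃.hom_inv_id).trans (Category.comp_id _))))
  · exact (Category.assoc _ _ _).trans (congrArg (_ ≫ ·) ((Category.assoc _ _ _).trans
      ((congrArg (_ ≫ ·) (((shiftFunctor (DCoh.D X) (1 : ℤ)).map_comp _ _).symm.trans
        ((congrArg _ i₁.hom_inv_id).trans ((shiftFunctor (DCoh.D X) (1 : ℤ)).map_id _)))).trans
        (Category.comp_id _))))

end PerfCompLib
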